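import Cfsg.Agent.Lib.H4.EqDeg
import Cfsg.Agent.Lib.H59.BSW3

set_option autoImplicit false

/-! Characters: the equal degree family, and the involution functional on induced functions. -/

open Cfsg Representation
open scoped ComplexConjugate

namespace H2.CI

open H18.CharBasic H18.CharOrtho H18.CharInd H18.CharQuot H31.Clifford

universe u v w

/-- The equal-degree family of a Frobenius group with kernel `N`, with all induced characters in it. -/
theorem fam {L : Type u} [Group L] [Fintype L] (N : Subgroup L) [hN : N.Normal]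
    (hC : ∀ n ∈ N, n ≠ 1 → Subgroup.centralizer ({n} : Set L) ≤ N) :
    ∃ (w : ℕ) (ψ : Fin w → (L → ℂ)), (∀ j, IsIrrCharacter L (ψ j)) ∧ Function.Injective ψ ∧
      (∀ j, ∀ x : L, x ∉ N → ψ j x = 0) ∧ (∀ j, ψ j 1 = N.index) ∧
      N.index * w + 1 = Nat.card (Abelianization N) ∧
      (∀ f : N →* ℂˣ, f ≠ 1 → ∃ j, ψ j = indFun N (fun a => (f a : ℂ))) := by
  classical
  obtain ⟨w, ψ, h1, h2, h3, h4, h5, h6, h7⟩ := H4.EqDeg.local_data N hC
  have := Fintype.ofFinite N
  have : Finite (N →* ℂˣ) := by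
    have : Finite (IrrCharacter N) := inferInstance
    exact Finite.of_equiv _ (linEquiv N)
  have := Fintype.ofFinite (N →* ℂˣ)
  let F : (N →* ℂˣ) → (L → ℂ) := fun f => indFun N (fun a => (f a : ℂ))
  let Λ : Finset (N →* ℂˣ) := Finset.univ.filter (fun f => f ≠ 1)
  let S : Finset (L → ℂ) := Λ.image F
  have hirr : ∀ f : N →* ℂˣ, f ≠ 1 → IsIrrCharacter L (F f) := fun f hf =>
    H32.FrobInd.isIrr_ind N hC (isIrrCharacter_of_hom f) (H4.EqDeg.hom_ne_one hf)
  have hfib : ∀ χ ∈ S, (Λ.filter (fun f => F f = χ)).card = N.index := by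
    intro χ hχ
    obtain ⟨f, hf, rfl⟩ := Finset.mem_image.mp hχ
    have hf1 : f ≠ 1 := (Finset.mem_filter.mp hf).2
    set θ : N → ℂ := fun a => (f a : ℂ) with hθ
    have hθirr : IsIrrCharacter N θ := isIrrCharacter_of_hom f
    have hin : inertia N θ = N := by
      ext g
      rw [mem_inertia]
      constructor
      · intro h
        by_contra hg
        exact H4.EqDeg.hom_ne_one hf1 (H32.BrauerPerm.eq_one_of_fixed N hC hg hθirr h)
      · intro hg
        exact cj_mem N (isClassFunction_of_isIrr hθirr) hg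
    have horb : (orb N θ).card = N.index := by rw [card_orb, hin]
    rw [← horb]
    refine Finset.card_bij (fun f' _ => fun a => ((f' a : ℂˣ) : ℂ)) ?_ ?_ ?_
    · intro f' hf'
      have h1 := Finset.mem_filter.mp hf'
      have h2 : f' ≠ 1 := (Finset.mem_filter.mp h1.1).2
      rw [mem_orb]
      by_contra hcon
      have h3 := inner_ind_eq_zero N hθirr (isIrrCharacter_of_hom f') hcon
      have h4 : indFun N (fun a => (f' a : ℂ)) = indFun N θ := h1.2
      rw [h4, inner_irr_self (hirr f hf1)] at h3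
      exact one_ne_zero h3
    · intro a _ b _ hab
      exact coe_hom_injective hab
    · intro φ hφ
      obtain ⟨g, rfl⟩ := (mem_orb N).mp hφ
      obtain ⟨f', hf'⟩ := exists_hom_of_degree_one
        (isCharacter_of_isIrr (isIrrCharacter_conjN N g hθirr)) (by
          rw [cj_at_one]; simp [hθ])
      refine ⟨f', ?_, hf'.symm⟩
      have h5 : F f' = F f := by
        show indFun N (fun a => (f' a : ℂ)) = indFun N θ
        rw [← hf', ind_cj]
      rw [Finset.mem_filter, Finset.mem_filter]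
      refine ⟨⟨Finset.mem_univ _, ?_⟩, h5⟩
      rintro rfl
      apply H4.EqDeg.hom_ne_one hf1
      have h6 : conjFunN N g θ = conjFunN N g (fun _ => 1) := by
        rw [hf']; rfl
      exact cj_inj N g h6
  have hcardΛ : Λ.card + 1 = Nat.card (Abelianization N) := by
    have h1 : Nat.card (N →* ℂˣ) = Nat.card (Abelianization N) := card_hom_eq_index
    rw [← h1, Nat.card_eq_fintype_card, ← Finset.card_univ]
    have h2 : Λ = Finset.univ.erase 1 := by
      ext f; simp [Λ]
    rw [h2, Finset.card_erase_add_one (Finset.mem_univ _)]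
  have hcount : N.index * S.card = Λ.card := by
    rw [Finset.card_eq_sum_card_fiberwise (t := S) (f := F) (fun f hf => Finset.mem_image_of_mem F hf),
      Finset.sum_congr rfl hfib, Finset.sum_const, smul_eq_mul, mul_comm]
  let e := S.equivFin
  have hj : ∀ j, ∃ f : N →* ℂˣ, f ≠ 1 ∧ (e.symm j : L → ℂ) = F f := by
    intro j
    obtain ⟨f, hf, h⟩ := Finset.mem_image.mp (e.symm j).2
    exact ⟨f, (Finset.mem_filter.mp hf).2, h.symm⟩
  refine ⟨S.card, fun j => (e.symm j : L → ℂ), ?_, ?_, ?_, ?_, ?_, ?_⟩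
  · intro j
    obtain ⟨f, hf, h⟩ := hj j
    show IsIrrCharacter L (e.symm j : L → ℂ)
    rw [h]; exact hirr f hf
  · exact Subtype.val_injective.comp e.symm.injective
  · intro j x hx
    obtain ⟨f, hf, h⟩ := hj j
    show (e.symm j : L → ℂ) x = 0
    rw [h]; exact ind_not_mem N _ hx
  · intro j
    obtain ⟨f, hf, h⟩ := hj j
    show (e.symm j : L → ℂ) 1 = _
    rw [h]
    show indFun N (fun a => (f a : ℂ)) 1 = _
    rw [indFun_one]; simp
  · rw [hcount, hcardΛ]
  · intro f hf
    have h2 : F f ∈ S := Finset.mem_image_of_mem F (Finset.mem_filter.mpr ⟨Finset.mem_univ _, hf⟩)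
    refine ⟨e ⟨_, h2⟩, ?_⟩
    show (e.symm (e ⟨F f, h2⟩) : L → ℂ) = _
    rw [Equiv.symm_apply_apply]

/-- The involution functional on an induced function counts products. -/
theorem Fn_ind {G : Type u} [Group G] [Fintype G] [Fintype (IrrCharacter G)] (t : G) (H : Subgroup G)
    [Fintype H] (f : H → ℂ) :
    (Nat.card {x : G // IsConj t x} : ℂ) * (Nat.card {x : G // IsConj t x} : ℂ) /
      (Nat.card G : ℂ) * H59.BSW.Fn t (indFun H f) = (Nat.card H : ℂ)⁻¹ * ∑ k : H, f k *
        (Nat.card {p : G × G // IsConj t p.1 ∧ IsConj t p.2 ∧ p.1 * p.2 = (k : G)} : ℂ) := by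
  classical
  have h0 : (Nat.card H : ℂ) ≠ 0 := by exact_mod_cast (Nat.card_pos (α := H)).ne'
  set c : ℂ := (Nat.card {x : G // IsConj t x} : ℂ) * (Nat.card {x : G // IsConj t x} : ℂ) /
      (Nat.card G : ℂ) with hc
  have key : ∀ k : H, f k * (Nat.card {p : G × G // IsConj t p.1 ∧ IsConj t p.2 ∧
      p.1 * p.2 = (k : G)} : ℂ) = f k * (c * ∑ χ : IrrCharacter G,
      (χ : G → ℂ) t * (χ : G → ℂ) t * conj ((χ : G → ℂ) k) / (χ : G → ℂ) 1) := by
    intro k
    rw [H18.CharCentral.class_mult t t (k : G), ← hc]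
  rw [Finset.sum_congr rfl (fun k _ => key k)]
  have h3 : ∑ k : H, f k * (c * ∑ χ : IrrCharacter G,
      (χ : G → ℂ) t * (χ : G → ℂ) t * conj ((χ : G → ℂ) k) / (χ : G → ℂ) 1) =
      c * ∑ χ : IrrCharacter G, ((χ : G → ℂ) t ^ 2 / (χ : G → ℂ) 1) *
        ∑ k : H, f k * conj ((χ : G → ℂ) k) := by
    simp only [Finset.mul_sum]
    rw [Finset.sum_comm]
    refine Finset.sum_congr rfl fun χ _ => Finset.sum_congr rfl fun k _ => ?_
    ring
  rw [h3]
  have h4 : ∀ χ : IrrCharacter G, ∑ k : H, f k * conj ((χ : G → ℂ) k) =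
      (Nat.card H : ℂ) * classInner (indFun H f) (χ : G → ℂ) := by
    intro χ
    rw [frobenius H _ (isClassFunction_of_isIrr χ.2)]
    unfold classInner
    field_simp
  simp only [h4]
  have h5 : c * ∑ χ : IrrCharacter G, ((χ : G → ℂ) t ^ 2 / (χ : G → ℂ) 1) *
      ((Nat.card H : ℂ) * classInner (indFun H f) (χ : G → ℂ)) =
      (c * H59.BSW.Fn t (indFun H f)) * (Nat.card H : ℂ) := by
    unfold H59.BSW.Fn
    rw [Finset.mul_sum, Finset.mul_sum, Finset.sum_mul]
    refine Finset.sum_congr rfl fun χ _ => ?_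
    ring
  rw [h5]
  field_simp

end H2.CI
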