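import Cfsg.Agent.Lib.H2.CI.Count
import Cfsg.Agent.Lib.H2.CI.Fam
import Cfsg.Agent.S0170
import Cfsg.Agent.S0149

set_option autoImplicit false

/-! TI situation with more than one involution in `A`: `A` is elementary abelian. -/

open Cfsg Representation
open scoped ComplexConjugate

namespace H2.CI

open H18.CharBasic H18.CharOrtho H18.CharInd H18.CharQuot H25.Isolated Subgroup

universe u

variable {G : Type u} [Group G]

namespace Sit

variable {t : G} {A : Subgroup G}

theorem ksub_normal (h : Sit t A (normalizer (A : Set G))) :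
    (A.subgroupOf (normalizer (A : Set G))).Normal := by
  constructor
  intro n hn g
  rw [mem_subgroupOf] at hn ⊢
  exact h.conj_M g.2 hn

theorem ksub_comm (h : Sit t A (normalizer (A : Set G))) (x y : A.subgroupOf (normalizer (A : Set G))) :
    x * y = y * x := by
  apply Subtype.ext; apply Subtype.ext
  exact h.comm x.2 y.2

theorem exists_hom [Finite G] (h : Sit t A (normalizer (A : Set G)))
    {b : A.subgroupOf (normalizer (A : Set G))} (hb : b ≠ 1) :
    ∃ f : A.subgroupOf (normalizer (A : Set G)) →* ℂˣ, f b ≠ 1 := by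
  apply exists_hom_ne_one
  have : commutator (A.subgroupOf (normalizer (A : Set G))) = ⊥ := by
    rw [commutator_eq_closure, Subgroup.closure_eq_bot_iff]
    rintro x ⟨y, z, rfl⟩
    rw [Set.mem_singleton_iff, commutatorElement_eq_one_iff_mul_comm]
    exact h.ksub_comm y z
  rw [this]
  exact fun h1 => hb (mem_bot.1 h1)

/-- arithmetic -/
theorem arith {m a w n d g : ℕ} (hm : 2 ≤ m) (ha : (m + 1) * (m + 1) ≤ a) (hw : m * w + 1 = a)
    (hn : a + 1 ≤ n) (hg : g = n * (m * a)) (h1 : g ≤ (m - 1) * a * d) (h2 : w * d ^ 2 ≤ g) : False := by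
  obtain ⟨k, rfl⟩ : ∃ k, m = k + 2 := ⟨m - 2, by omega⟩
  have hk : k + 2 - 1 = k + 1 := by omega
  rw [hk] at h1
  have hgpos : 0 < g := by
    rw [hg]; apply Nat.mul_pos (by omega)
    apply Nat.mul_pos (by omega)
    have : 0 < (k + 2 + 1) * (k + 2 + 1) := by positivity
    omega
  -- w g² ≤ w (k+1)² a² d² ≤ (k+1)² a² g
  have e1 : w * g * g ≤ (k + 1) ^ 2 * a ^ 2 * g := by
    calc w * g * g ≤ w * ((k + 1) * a * d) * ((k + 1) * a * d) := by
          apply Nat.mul_le_mul (Nat.mul_le_mul_left _ h1) h1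
      _ = (k + 1) ^ 2 * a ^ 2 * (w * d ^ 2) := by ring
      _ ≤ _ := Nat.mul_le_mul_left _ h2
  have e2 : w * g ≤ (k + 1) ^ 2 * a ^ 2 := Nat.le_of_mul_le_mul_right e1 hgpos
  have e3 : w * ((a + 1) * ((k + 2) * a)) ≤ (k + 1) ^ 2 * a ^ 2 := by
    refine le_trans ?_ e2
    rw [hg]
    exact Nat.mul_le_mul_left _ (Nat.mul_le_mul_right _ hn)
  have hapos : 0 < a := by omega
  have e4 : (k + 2) * w * (a + 1) ≤ (k + 1) ^ 2 * a := by
    apply Nat.le_of_mul_le_mul_right _ hapos
    calc (k + 2) * w * (a + 1) * a = w * ((a + 1) * ((k + 2) * a)) := by ring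
      _ ≤ (k + 1) ^ 2 * a ^ 2 := e3
      _ = _ := by ring
  obtain ⟨b, rfl⟩ : ∃ b, a = b + 1 := ⟨a - 1, by omega⟩
  have hb : (k + 2) * w = b := by omega
  rw [hb] at e4
  nlinarith

end Sit

section Val

variable {L : Type u} [Group L] [Fintype L] (N : Subgroup L) [hN : N.Normal]

theorem conj_sq {T : N} (hT : T * T = 1) (x : L) :
    (⟨x * T * x⁻¹, hN.conj_mem T T.2 x⟩ : N) * ⟨x * T * x⁻¹, hN.conj_mem T T.2 x⟩ = 1 := by
  apply Subtype.ext
  show (x * T * x⁻¹) * (x * T * x⁻¹) = 1
  have h1 : (T : L) * T = 1 := congrArg Subtype.val hT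
  calc (x * T * x⁻¹) * (x * T * x⁻¹) = x * (T * T) * x⁻¹ := by group
    _ = 1 := by rw [h1]; group

theorem val_eq (f : N →* ℂˣ) (hf : ∀ b : N, b * b = 1 → f b = 1) (T : N) (hT : T * T = 1) :
    indFun N (fun a => (f a : ℂ)) T = (N.index : ℂ) := by
  rw [H32.FrobInd.indFun_restrict N]
  have h2 : ∀ x : L, conjFunN N x (fun a => (f a : ℂ)) T = 1 := by
    intro x
    unfold conjFunN
    simp only
    rw [hf _ (conj_sq N hT x)]
    simp
  rw [Finset.sum_congr rfl (fun x _ => h2 x), Finset.sum_const, nsmul_eq_mul, mul_one,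
    Finset.card_univ, ← Nat.card_eq_fintype_card, ← Subgroup.index_mul_card N]
  have h0 : (Nat.card N : ℂ) ≠ 0 := by
    exact_mod_cast Nat.card_pos.ne'
  push_cast
  field_simp

theorem val_ne (f : N →* ℂˣ) (T : N) (hT : T * T = 1) (hf : f T ≠ 1) :
    indFun N (fun a => (f a : ℂ)) T ≠ (N.index : ℂ) := by
  rw [H32.FrobInd.indFun_restrict N]
  have h0 : (Nat.card N : ℂ) ≠ 0 := by
    exact_mod_cast Nat.card_pos.ne'
  have h2 : ∀ x : L, (conjFunN N x (fun a => (f a : ℂ)) T).re ≤ 1 := by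
    intro x
    unfold conjFunN
    simp only
    have h3 : (f ⟨x * T * x⁻¹, hN.conj_mem T T.2 x⟩) ^ 2 = 1 := by
      rw [← map_pow, pow_two, conj_sq N hT x, map_one]
    rcases H59.BSW.units_sq_eq h3 with h4 | h4 <;> rw [h4] <;> simp
  have h3 : (conjFunN N 1 (fun a => (f a : ℂ)) T).re < 1 := by
    unfold conjFunN
    simp only
    have h4 : (⟨1 * T * 1⁻¹, hN.conj_mem T T.2 1⟩ : N) = T := by
      apply Subtype.ext; simp
    rw [h4]
    have h5 : (f T) ^ 2 = 1 := by rw [← map_pow, pow_two, hT, map_one]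
    rcases H59.BSW.units_sq_eq h5 with h6 | h6
    · exact absurd h6 hf
    · rw [h6]; simp
  intro h4
  have h5 : ∑ x : L, conjFunN N x (fun a => (f a : ℂ)) T = (Nat.card L : ℂ) := by
    rw [← Subgroup.index_mul_card N]
    push_cast
    rw [← h4]; field_simp
  have h6 := congrArg Complex.re h5
  rw [Complex.re_sum] at h6
  have h7 : ∑ x : L, (conjFunN N x (fun a => (f a : ℂ)) T).re < ∑ x : L, (1 : ℝ) :=
    Finset.sum_lt_sum (fun x _ => h2 x) ⟨1, Finset.mem_univ _, h3⟩
  rw [h6, Finset.sum_const, Finset.card_univ, ← Nat.card_eq_fintype_card] at h7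
  simp at h7

end Val

/-- sum over the pairs -/
theorem Sit.sum_pairs [Fintype G] {t : G} {A : Subgroup G} (h : Sit t A (normalizer (A : Set G)))
    [Fintype ↥(normalizer (A : Set G))] (f : ↥(normalizer (A : Set G)) → ℂ)
    (hcl : IsClassFunction _ f) (hv : ∀ x : ↥(normalizer (A : Set G)), (x : G) ∉ A → f x = 0)
    (h1 : f 1 = 0) :
    ∑ k : ↥(normalizer (A : Set G)), f k *
        (Nat.card {p : G × G // IsConj t p.1 ∧ IsConj t p.2 ∧ p.1 * p.2 = (k : G)} : ℂ) =
      (mm (normalizer (A : Set G)) : ℂ) * ((mm (normalizer (A : Set G)) : ℂ) - 1) *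
        f ⟨t, h.AM h.tA⟩ := by
  classical
  have e : ∀ k : ↥(normalizer (A : Set G)), f k *
        (Nat.card {p : G × G // IsConj t p.1 ∧ IsConj t p.2 ∧ p.1 * p.2 = (k : G)} : ℂ) =
      if orderOf (k : G) = 2 then f ⟨t, h.AM h.tA⟩ * ((mm (normalizer (A : Set G)) : ℂ) - 1) else 0 := by
    intro k
    by_cases hkA : (k : G) ∈ A
    · by_cases hk1 : (k : G) = 1
      · have : k = 1 := Subtype.ext hk1
        rw [this, h1, zero_mul, if_neg]
        simp
      · by_cases hk2 : (k : G) * k = 1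
        · have ho := orderOf_two_of hk2 hk1
          rw [if_pos ho]
          have h2 := h.card_pairs_inv hkA ho
          have h3 : (Nat.card {p : G × G // IsConj t p.1 ∧ IsConj t p.2 ∧ p.1 * p.2 = (k : G)} : ℂ) =
              (mm (normalizer (A : Set G)) : ℂ) - 1 := by
            rw [← h2]; push_cast; ring
          rw [h3]
          congr 1
          obtain ⟨g, hg⟩ := isConj_iff.1 (h.isConj_iff'.2 ho)
          have hgM : g⁻¹ ∈ normalizer (A : Set G) := by
            apply h.ti h.tA h.t1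
            rw [inv_inv, hg]; exact hkA
          have hgM' : g ∈ normalizer (A : Set G) := by simpa using inv_mem hgM
          have h4 := hcl ⟨t, h.AM h.tA⟩ ⟨g, hgM'⟩
          rw [← h4]
          congr 1
          apply Subtype.ext
          exact hg.symm
        · rw [h.card_pairs_zero hkA hk1 hk2, if_neg]
          · simp
          · intro h2
            exact hk2 (self_mul_self h2)
    · rw [hv k hkA, zero_mul, if_neg]
      intro h2
      exact hkA (h.invol_mem h2 k.2)
  rw [Finset.sum_congr rfl (fun k _ => e k), ← Finset.sum_filter, Finset.sum_const, nsmul_eq_mul]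
  have hc : (Finset.univ.filter (fun k : ↥(normalizer (A : Set G)) => orderOf (k : G) = 2)).card =
      mm (normalizer (A : Set G)) := by
    rw [mm, ← Fintype.card_subtype, ← Nat.card_eq_fintype_card]
    apply Nat.card_congr
    exact
      { toFun := fun k => ⟨k.1.1, k.2, k.1.2⟩
        invFun := fun s => ⟨⟨s.1, s.2.2⟩, s.2.1⟩
        left_inv := fun k => rfl
        right_inv := fun s => rfl }
  rw [hc]; ring

/-- two distinct irreducibles: `w d² ≤ |G|` -/
theorem card_mul_le [Fintype G] {w d : ℕ} (θ : Fin w → (G → ℂ)) (hθ : ∀ i, IsIrrCharacter G (θ i))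
    (hinj : Function.Injective θ) (hd : ∀ i, θ i 1 = d) : w * d ^ 2 ≤ Nat.card G := by
  classical
  have := Fintype.ofFinite (IrrCharacter G)
  have h1 := sum_degree_sq (G := G)
  have h2 : ∀ χ : IrrCharacter G, ∃ n : ℕ, (χ : G → ℂ) 1 = n := fun χ =>
    exists_degree (isCharacter_of_isIrr χ.2)
  choose n hn using h2
  have h3 : ∑ χ : IrrCharacter G, n χ ^ 2 = Nat.card G := by
    have : ((∑ χ : IrrCharacter G, n χ ^ 2 : ℕ) : ℂ) = (Nat.card G : ℂ) := by
      rw [← h1]
      push_cast
      exact Finset.sum_congr rfl fun χ _ => by rw [hn]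
    exact_mod_cast this
  rw [← h3]
  let e : Fin w → IrrCharacter G := fun i => ⟨θ i, hθ i⟩
  have he : Function.Injective e := fun i j hij => hinj (congrArg Subtype.val hij)
  calc w * d ^ 2 = ∑ i : Fin w, n (e i) ^ 2 := by
        have : ∀ i : Fin w, n (e i) ^ 2 = d ^ 2 := by
          intro i
          have h4 : (n (e i) : ℂ) = d := by rw [← hn, ← hd i]
          have h5 : n (e i) = d := by exact_mod_cast h4
          rw [h5]
        rw [Finset.sum_congr rfl (fun i _ => this i)]
        simp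
    _ = ∑ χ ∈ Finset.univ.image e, n χ ^ 2 := by
        rw [Finset.sum_image (fun i _ j _ hij => he hij)]
    _ ≤ _ := Finset.sum_le_sum_of_subset (Finset.subset_univ _)

/-- **`A` is elementary abelian.** -/
theorem Sit.elem [Finite G] {t : G} {A : Subgroup G} (h : Sit t A (normalizer (A : Set G)))
    (hm : 2 ≤ mm (normalizer (A : Set G))) : ∀ a ∈ A, a * a = 1 := by
  classical
  by_contra hcon
  push Not at hcon
  obtain ⟨a, ha, ha2⟩ := hcon
  have := Fintype.ofFinite G
  set L := ↥(normalizer (A : Set G)) with hL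
  have := Fintype.ofFinite L
  set N : Subgroup L := A.subgroupOf (normalizer (A : Set G)) with hN
  have hNn : N.Normal := h.ksub_normal
  set m := mm (normalizer (A : Set G)) with hmdef
  have hidx : N.index = m := h.index_A
  have hC : ∀ n ∈ N, n ≠ 1 → Subgroup.centralizer ({n} : Set L) ≤ N := by
    intro n hn hn1 x hx
    rw [mem_centralizer_singleton_iff] at hx
    exact h.frob x.2 hn (fun h1 => hn1 (Subtype.ext h1)) (congrArg Subtype.val hx)
  obtain ⟨w, ψ, hirr, hinj, hvan, hdeg, hcard, hind⟩ := fam N hC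
  have hNcard : Nat.card N = Nat.card A :=
    Nat.card_congr (Subgroup.subgroupOfEquivOfLe h.AM).toEquiv
  have hab : Nat.card (Abelianization N) = Nat.card A := by
    rw [← hNcard]
    have h1 : commutator N = ⊥ := by
      rw [commutator_eq_closure, Subgroup.closure_eq_bot_iff]
      rintro x ⟨y, z, rfl⟩
      rw [Set.mem_singleton_iff, commutatorElement_eq_one_iff_mul_comm]
      exact h.ksub_comm y z
    have h2 := Subgroup.index_mul_card (commutator N)
    rw [h1] at h2
    have h3 : Nat.card (Abelianization N) = (commutator N).index := rfl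
    rw [h3, h1]
    simpa using h2
  rw [hab, hidx] at hcard
  -- the two characters
  let T : N := ⟨⟨t, h.AM h.tA⟩, h.tA⟩
  have hT1 : T ≠ 1 := by
    intro h1
    apply h.t1
    exact congrArg (fun x : N => ((x : L) : G)) h1
  have hTT : T * T = 1 := by
    apply Subtype.ext; apply Subtype.ext
    exact self_mul_self h.t2
  let a₀ : N := ⟨⟨a, h.AM ha⟩, ha⟩
  have hb1 : a₀ * a₀ ≠ 1 := by
    intro h1
    apply ha2
    exact congrArg (fun x : N => ((x : L) : G)) h1
  obtain ⟨g, hg⟩ := h.exists_hom hb1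
  let f₁ : N →* ℂˣ := g * g
  have hf₁1 : f₁ ≠ 1 := by
    intro h1
    apply hg
    have := DFunLike.congr_fun h1 a₀
    rw [map_mul]
    exact this
  have hf₁ : ∀ b : N, b * b = 1 → f₁ b = 1 := by
    intro b hb
    show g b * g b = 1
    rw [← map_mul, hb, map_one]
  obtain ⟨f₂, hf₂⟩ := h.exists_hom hT1
  have hf₂1 : f₂ ≠ 1 := by
    intro h1; apply hf₂; rw [h1]; rfl
  obtain ⟨i, hi⟩ := hind f₁ hf₁1
  obtain ⟨j, hj⟩ := hind f₂ hf₂1
  have hvi : ψ i T = m := by rw [hi, val_eq N f₁ hf₁ T hTT, hidx]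
  have hvj : ψ j T ≠ m := by rw [hj]; rw [← hidx]; exact val_ne N f₂ T hTT hf₂
  have hij : i ≠ j := by
    rintro rfl; exact hvj hvi
  have hw : 2 ≤ w := by
    have := i.2
    have := j.2
    have : (i : ℕ) ≠ j := fun h1 => hij (Fin.ext h1)
    omega
  -- exceptional characters
  have hTI : ∀ g : G, g ∉ normalizer (A : Set G) → ∀ s ∈ (A : Set G), g * s * g⁻¹ ∈ (A : Set G) → s = 1 :=
    fun g hg s hs hgs => h.not_conj_mem hg hs hgs
  obtain ⟨ε, hε, θ, hθ, hθinj, hθeq⟩ := Cfsg.Agent.S0170.result (A : Set G) h.AM hTI w hw ψ hirr hinj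
    (fun i x hx => hvan i x hx) (fun i j => by rw [hdeg, hdeg])
  have hε0 : ε ≠ 0 := by rcases hε with h1 | h1 <;> rw [h1] <;> norm_num
  -- the common degree
  obtain ⟨d, hd⟩ := exists_degree (isCharacter_of_isIrr (hθ i))
  have hdd : ∀ k, θ k 1 = d := by
    intro k
    have h1 := congrFun (hθeq k i) 1
    rw [Pi.sub_apply, indFun_one, indFun_one, hdeg, hdeg, sub_self, Pi.smul_apply, Pi.sub_apply,
      smul_eq_mul] at h1
    have h2 := (mul_eq_zero.1 h1.symm).resolve_left hε0
    rw [← hd]; linear_combination h2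
  have hdpos : 0 < d := by
    rcases Nat.eq_zero_or_pos d with h1 | h1
    · exfalso
      apply irr_one_ne_zero (hθ i)
      rw [hd, h1]; simp
    · exact h1
  have hd0 : (d : ℂ) ≠ 0 := by exact_mod_cast hdpos.ne'
  -- the difference
  let F : L → ℂ := ψ i - ψ j
  have hFcl : IsClassFunction L F := by
    intro x y
    show ψ i (y * x * y⁻¹) - ψ j (y * x * y⁻¹) = ψ i x - ψ j x
    rw [isClassFunction_of_isIrr (hirr i) x y, isClassFunction_of_isIrr (hirr j) x y]
  have hFv : ∀ x : L, (x : G) ∉ A → F x = 0 := by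
    intro x hx
    show ψ i x - ψ j x = 0
    rw [hvan i x hx, hvan j x hx, sub_zero]
  have hF1 : F 1 = 0 := by
    show ψ i 1 - ψ j 1 = 0
    rw [hdeg, hdeg, sub_self]
  have hFt : F ⟨t, h.AM h.tA⟩ ≠ 0 := by
    show ψ i T - ψ j T ≠ 0
    rw [hvi]
    exact fun h1 => hvj (sub_eq_zero.1 h1).symm
  have hFind : indFun (normalizer (A : Set G)) F = ε • (θ i - θ j) := by
    rw [← hθeq i j, ← indFun_sub]
  have hFt2 : ε * (θ i t - θ j t) = F ⟨t, h.AM h.tA⟩ := by
    have h1 := Cfsg.Agent.S0149.result (A : Set G) hTI h.AM F hFcl hFv ⟨t, h.AM h.tA⟩ h.tA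
      (fun h2 => h.t1 (congrArg Subtype.val h2))
    rw [hFind] at h1
    exact h1
  have := Fintype.ofFinite (IrrCharacter G)
  have hFn := Fn_ind t (normalizer (A : Set G)) F
  rw [h.sum_pairs F hFcl hFv hF1, hFind, H59.BSW.Fn_smul, H59.BSW.Fn_sub, H59.BSW.Fn_irr t (hθ i),
    H59.BSW.Fn_irr t (hθ j), hdd, hdd, ← hFt2] at hFn
  have hcl : Nat.card {x : G // IsConj t x} * Nat.card A = Nat.card G := by
    have h1 := card_isConj_mul_card_centralizer t
    rw [← h.hA] at h1
    exact h1
  have hLcard : Nat.card L = m * Nat.card A := h.card_M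
  set c := Nat.card {x : G // IsConj t x} with hc
  have hA0 : (Nat.card A : ℂ) ≠ 0 := by exact_mod_cast Nat.card_pos.ne'
  have hG0 : (Nat.card G : ℂ) ≠ 0 := by exact_mod_cast Nat.card_pos.ne'
  have hm0 : (m : ℂ) ≠ 0 := by
    have : m ≠ 0 := by omega
    exact_mod_cast this
  have hcC : (c : ℂ) = (Nat.card G : ℂ) / (Nat.card A : ℂ) := by
    rw [eq_div_iff hA0]; exact_mod_cast hcl
  have hLC : (Nat.card L : ℂ) = m * (Nat.card A : ℂ) := by rw [hLcard]; push_cast; ring
  have hδ : θ i t - θ j t ≠ 0 := by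
    intro h1; rw [h1, mul_zero] at hFt2; exact hFt hFt2.symm
  have key : (Nat.card G : ℂ) * (θ i t + θ j t) = ((m : ℂ) - 1) * (Nat.card A : ℂ) * d := by
    have h1 : (Nat.card ↥(normalizer (A : Set G)) : ℂ) = m * (Nat.card A : ℂ) := hLC
    rw [hcC, h1, ← hmdef] at hFn
    field_simp at hFn
    have h2 : (θ i t - θ j t) * ((Nat.card G : ℂ) * (θ i t + θ j t)) =
        (θ i t - θ j t) * (((m : ℂ) - 1) * (Nat.card A : ℂ) * d) := by
      linear_combination hFn
    exact mul_left_cancel₀ hδ h2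
  -- integrality
  obtain ⟨s, hs⟩ : ∃ s : ℤ, θ i t + θ j t = s := by
    have h1 : IsIntegral ℤ (θ i t + θ j t) :=
      (char_isIntegral (isCharacter_of_isIrr (hθ i)) t).add (char_isIntegral (isCharacter_of_isIrr (hθ j)) t)
    have h2 : θ i t + θ j t = (((((m : ℚ) - 1) * (Nat.card A : ℚ) * d) / (Nat.card G : ℚ) : ℚ) : ℂ) := by
      push_cast
      rw [eq_div_iff hG0]; linear_combination key
    rw [h2] at h1
    obtain ⟨n, hn⟩ := H4.Integral.exists_int_of_isIntegral_rat h1
    exact ⟨n, by rw [h2, hn]; simp⟩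
  rw [hs] at key
  have keyZ : (Nat.card G : ℤ) * s = ((m : ℤ) - 1) * (Nat.card A : ℤ) * d := by
    exact_mod_cast key
  have hApos : 0 < Nat.card A := Nat.card_pos
  have hGpos : 0 < Nat.card G := Nat.card_pos
  have hspos : 0 < s := by
    have h1 : 0 < (Nat.card G : ℤ) * s := by
      rw [keyZ]
      have : 0 < (m : ℤ) - 1 := by omega
      positivity
    exact (mul_pos_iff_of_pos_left (by exact_mod_cast hGpos)).1 h1
  have hle : Nat.card G ≤ (m - 1) * Nat.card A * d := by
    have h1 : (Nat.card G : ℤ) ≤ ((m : ℤ) - 1) * (Nat.card A : ℤ) * d := by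
      rw [← keyZ]
      nlinarith [hspos, hGpos]
    have h2 : ((m - 1 : ℕ) : ℤ) = (m : ℤ) - 1 := by omega
    rw [← h2] at h1
    exact_mod_cast h1
  have hG : Nat.card G = (normalizer (A : Set G)).index * (m * Nat.card A) := by
    rw [← Subgroup.index_mul_card (normalizer (A : Set G))]
    congr 1
  exact arith hm (h.card_A_ge ha ha2) hcard h.index_ge hG hle (card_mul_le θ hθ hθinj hdd)

end H2.CI
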