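import Cfsg.Agent.Lib.H2.CI.Basic
import Cfsg.Agent.Lib.H6.SL2Tor
import Cfsg.Agent.Lib.H25.SL2Card
import Cfsg.Agent.Lib.H40.SL2Nine
import Cfsg.Agent.S0089

set_option autoImplicit false

/-! Central extensions of `SL₂(2^n) × (odd abelian)` of odd degree with abelian involution centralizers split. -/

open Cfsg

namespace H2.CI

open Subgroup H25.Isolated Matrix

universe u

/-- the conclusion -/
def Concl (G : Type*) [Group G] : Prop :=
  ∃ (F : Type) (_ : Field F) (_ : Fintype F) (A : Type) (_ : CommGroup A) (_ : Finite A),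
    CharP F 2 ∧ Odd (Nat.card A) ∧ Nonempty (G ≃* Matrix.SpecialLinearGroup (Fin 2) F × A)

/-- a bare type with `n` elements -/
structure Bare (n : ℕ) : Type where
  /-- the underlying element -/
  v : Fin n

/-- the obvious equivalence -/
def bareEquiv (n : ℕ) : Bare n ≃ Fin n := ⟨Bare.v, Bare.mk, fun _ => rfl, fun _ => rfl⟩

theorem exists_type0 (R : Type*) [Group R] [Finite R] (hR : ∀ a b : R, a * b = b * a) :
    ∃ (A : Type) (_ : CommGroup A) (_ : Finite A), Nat.card A = Nat.card R ∧ Nonempty (R ≃* A) := by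
  let e : R ≃ Bare (Nat.card R) := (Finite.equivFin R).trans (bareEquiv _).symm
  letI g : Group (Bare (Nat.card R)) := e.symm.group
  letI : CommGroup (Bare (Nat.card R)) :=
    { g with
      mul_comm := fun a b => by
        have h1 := congrArg e (hR (e.symm a) (e.symm b))
        exact h1 }
  have hmul : ∀ a b : R, e (a * b) = e a * e b := by
    intro a b
    show e (a * b) = e (e.symm (e a) * e.symm (e b))
    rw [Equiv.symm_apply_apply, Equiv.symm_apply_apply]
  exact ⟨Bare (Nat.card R), inferInstance, Finite.of_equiv _ e, (Nat.card_congr e).symm, ⟨⟨e, hmul⟩⟩⟩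

variable {G : Type u} [Group G] [Finite G]

/-- 2-subgroups are abelian -/
theorem comm_of_isPGroup (h : CI G) {Q : Subgroup G} (hQ : IsPGroup 2 Q) {x y : G} (hx : x ∈ Q)
    (hy : y ∈ Q) : x * y = y * x := by
  by_cases hn : Nontrivial Q
  · have := hQ.center_nontrivial
    have h2 : 2 ∣ Nat.card (Subgroup.center Q) := by
      have h3 : IsPGroup 2 (Subgroup.center Q) := hQ.to_subgroup _
      obtain ⟨n, hn0, hn⟩ := h3.nontrivial_iff_card.1 this
      rw [hn]
      exact dvd_pow_self 2 (by omega)
    obtain ⟨z, hz⟩ := exists_prime_orderOf_dvd_card' (G := Subgroup.center Q) 2 h2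
    have hz2 : orderOf ((z : Q) : G) = 2 := by
      rw [Subgroup.orderOf_coe, Subgroup.orderOf_coe]; exact hz
    have hc : ∀ w ∈ Q, w * ((z : Q) : G) = ((z : Q) : G) * w := by
      intro w hw
      have := Subgroup.mem_center_iff.1 z.2 ⟨w, hw⟩
      exact congrArg Subtype.val this
    exact h _ hz2 x y (hc x hx) (hc y hy)
  · rw [not_nontrivial_iff_subsingleton] at hn
    have h1 : x = 1 := congrArg Subtype.val (Subsingleton.elim (⟨x, hx⟩ : Q) 1)
    rw [h1]; simp

theorem split (h : CI G) {F : Type} [Field F] [Fintype F] [CharP F 2] (hF : 4 ≤ Fintype.card F)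
    {O : Type} [CommGroup O] [Finite O] (hO : Odd (Nat.card O))
    (π : G →* SpecialLinearGroup (Fin 2) F × O) (hπ : Function.Surjective π)
    (hker : π.ker ≤ center G) (hodd : Odd (Nat.card π.ker)) : Concl G := by
  classical
  set f := (MonoidHom.fst (SpecialLinearGroup (Fin 2) F) O).comp π with hf
  set s := (MonoidHom.snd (SpecialLinearGroup (Fin 2) F) O).comp π with hs
  set K := s.ker with hK
  set R := f.ker with hR
  have hfK : ∀ y, ∃ k ∈ K, f k = y := by
    intro y
    obtain ⟨g, hg⟩ := hπ (y, 1)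
    refine ⟨g, ?_, ?_⟩
    · rw [hK, MonoidHom.mem_ker]
      show (π g).2 = 1
      rw [hg]
    · show (π g).1 = y
      rw [hg]
  -- the sylow subgroups of K are abelian
  have hcen : ∀ x : G, x ∈ K → f x = 1 → x ∈ center G := by
    intro x hx hx1
    apply hker
    rw [MonoidHom.mem_ker]
    apply Prod.ext
    · exact hx1
    · exact hx
  have hsyl : ∀ p : ℕ, p.Prime → ∀ P : Sylow p K, IsMulCommutative P := by
    intro p hp P
    have := Fact.mk hp
    refine ⟨⟨fun a b => ?_⟩⟩
    by_cases hp2 : p = 2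
    · subst hp2
      have h1 : IsPGroup 2 ((P : Subgroup K).map K.subtype) := P.isPGroup'.map _
      apply Subtype.ext; apply Subtype.ext
      exact comm_of_isPGroup h h1 (mem_map_of_mem K.subtype a.2) (mem_map_of_mem K.subtype b.2)
    · let ψ : P →* SpecialLinearGroup (Fin 2) F := (f.comp K.subtype).comp (P : Subgroup K).subtype
      have h1 : IsPGroup p ψ.range := P.isPGroup'.of_surjective ψ.rangeRestrict
        ψ.rangeRestrict_surjective
      have h2 : (p : F) ≠ 0 := by
        intro h3
        rw [CharP.cast_eq_zero_iff F 2] at h3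
        exact hp2 ((Nat.prime_dvd_prime_iff_eq Nat.prime_two hp).1 h3).symm
      have h3 : IsCyclic ψ.range := H6.SL2Tor.isCyclic_of_odd_pgroup hp2 h2 h1 ψ.range.subtype
        (Subgroup.subtype_injective _)
      apply commutative_of_cyclic_center_quotient ψ.rangeRestrict
      intro x hx
      rw [Subgroup.mem_center_iff]
      intro y
      have h4 : ((x : K) : G) ∈ center G := by
        apply hcen _ (x : K).2
        rw [MonoidHom.mem_ker] at hx
        exact congrArg Subtype.val hx
      apply Subtype.ext; apply Subtype.ext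
      exact Subgroup.mem_center_iff.1 h4 _
  have hbot := Cfsg.Agent.S0089.result hsyl
  -- L = K'
  set L := ⁅K, K⁆ with hL
  have hLn : L.Normal := Subgroup.commutator_normal K K
  have hLK : L ≤ K := Subgroup.commutator_le_left K K
  have hLmap : (commutator K).map K.subtype = L := by
    rw [_root_.commutator_def, Subgroup.map_commutator, ← MonoidHom.range_eq_map,
      Subgroup.range_subtype]
  have hinj : ∀ x ∈ L, f x = 1 → x = 1 := by
    intro x hx hx1
    have h1 := hcen x (hLK hx) hx1
    rw [← hLmap] at hx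
    obtain ⟨y, hy, rfl⟩ := hx
    have h2 : y ∈ commutator K ⊓ center K := by
      refine mem_inf.2 ⟨hy, ?_⟩
      rw [Subgroup.mem_center_iff]
      intro z
      apply Subtype.ext
      exact Subgroup.mem_center_iff.1 h1 _
    rw [hbot, mem_bot] at h2
    rw [h2]; rfl
  have hsurj : ∀ y, ∃ l ∈ L, f l = y := by
    have h1 : K.map f = ⊤ := by
      rw [eq_top_iff]
      intro y _
      obtain ⟨k, hk, hk2⟩ := hfK y
      exact ⟨k, hk, hk2⟩
    have h2 : L.map f = ⊤ := by
      rw [hL, Subgroup.map_commutator, h1]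
      exact H40.SL2Nine.commutator_top hF
    intro y
    have : y ∈ L.map f := by rw [h2]; trivial
    obtain ⟨l, hl, hl2⟩ := this
    exact ⟨l, hl, hl2⟩
  have hcomm : ∀ l ∈ L, ∀ r ∈ R, l * r = r * l := by
    intro l hl r hr
    have hRn : R.Normal := by rw [hR]; infer_instance
    have h1 : l * r * l⁻¹ * r⁻¹ ∈ L := by
      have : l * r * l⁻¹ * r⁻¹ = l * (r * l⁻¹ * r⁻¹) := by group
      rw [this]
      exact mul_mem hl (hLn.conj_mem _ (inv_mem hl) r)
    have h2 : f (l * r * l⁻¹ * r⁻¹) = 1 := by
      have : l * r * l⁻¹ * r⁻¹ ∈ R := mul_mem (hRn.conj_mem r hr l) (inv_mem hr)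
      exact this
    have h3 := hinj _ h1 h2
    calc l * r = (l * r * l⁻¹ * r⁻¹) * (r * l) := by group
      _ = r * l := by rw [h3, one_mul]
  let Φ : L × R →* G :=
    { toFun := fun x => x.1 * x.2
      map_one' := by simp
      map_mul' := fun x y => by
        show ((x.1 * y.1 : L) : G) * ((x.2 * y.2 : R) : G) = _
        have := hcomm y.1 y.1.2 x.2 x.2.2
        push_cast
        calc (x.1 : G) * y.1 * (x.2 * y.2) = x.1 * (y.1 * x.2) * y.2 := by group
          _ = x.1 * x.2 * (y.1 * y.2) := by rw [this]; group }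
  have hΦ : Function.Bijective Φ := by
    constructor
    · rw [injective_iff_map_eq_one]
      rintro ⟨l, r⟩ hlr
      have h1 : (l : G) * r = 1 := hlr
      have h2 : (l : G) = (r : G)⁻¹ := eq_inv_of_mul_eq_one_left h1
      have h3 : f l = 1 := by
        rw [h2, map_inv, show f r = 1 from r.2, inv_one]
      have h4 := hinj l l.2 h3
      rw [h4, one_mul] at h1
      exact Prod.ext (Subtype.ext h4) (Subtype.ext h1)
    · intro g
      obtain ⟨l, hl, hl2⟩ := hsurj (f g)
      refine ⟨(⟨l, hl⟩, ⟨l⁻¹ * g, ?_⟩), ?_⟩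
      · rw [hR, MonoidHom.mem_ker, map_mul, map_inv, hl2, inv_mul_cancel]
      · show l * (l⁻¹ * g) = g
        group
  let e1 : L × R ≃* G := MulEquiv.ofBijective Φ hΦ
  let fL : L →* SpecialLinearGroup (Fin 2) F := f.comp L.subtype
  have hfL : Function.Bijective fL := by
    constructor
    · rw [injective_iff_map_eq_one]
      intro l hl
      exact Subtype.ext (hinj l l.2 hl)
    · intro y
      obtain ⟨l, hl, hl2⟩ := hsurj y
      exact ⟨⟨l, hl⟩, hl2⟩
  let e2 : L ≃* SpecialLinearGroup (Fin 2) F := MulEquiv.ofBijective fL hfL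
  -- an involution of L
  have hcardSL : Nat.card (SpecialLinearGroup (Fin 2) F) = Fintype.card F * (Fintype.card F ^ 2 - 1) :=
    H25.SL2Card.card_SL2
  have h2F : 2 ∣ Fintype.card F := by
    have := Nat.cast_card_eq_zero F
    rwa [CharP.cast_eq_zero_iff F 2] at this
  have h2L : 2 ∣ Nat.card L := by
    rw [Nat.card_congr e2.toEquiv, hcardSL]
    exact h2F.mul_right _
  obtain ⟨t, ht⟩ := exists_prime_orderOf_dvd_card' (G := L) 2 h2L
  have ht2 : orderOf (t : G) = 2 := by rw [Subgroup.orderOf_coe]; exact ht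
  have hRcomm : ∀ a b : R, a * b = b * a := by
    intro a b
    apply Subtype.ext
    exact h t ht2 a b (hcomm t t.2 a a.2).symm (hcomm t t.2 b b.2).symm
  -- order of R
  have hRodd : Odd (Nat.card R) := by
    have h1 : Nat.card G = Nat.card L * Nat.card R := by
      rw [← Nat.card_congr e1.toEquiv, Nat.card_prod]
    have h2 : Nat.card G = Nat.card π.ker * (Nat.card L * Nat.card O) := by
      rw [← Subgroup.index_mul_card π.ker, mul_comm, Subgroup.index_ker,
        MonoidHom.range_eq_top.2 hπ, Subgroup.card_top, Nat.card_prod, Nat.card_congr e2.toEquiv]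
    have h3 : Nat.card R = Nat.card π.ker * Nat.card O := by
      have h4 : Nat.card L * Nat.card R = Nat.card L * (Nat.card π.ker * Nat.card O) := by
        rw [← h1, h2]; ring
      exact Nat.eq_of_mul_eq_mul_left Nat.card_pos h4
    rw [h3]
    exact hodd.mul hO
  obtain ⟨A, hA1, hA2, hA3, ⟨e3⟩⟩ := exists_type0 R hRcomm
  refine ⟨F, inferInstance, inferInstance, A, hA1, hA2, inferInstance, by rw [hA3]; exact hRodd,
    ⟨e1.symm.trans (MulEquiv.prodCongr e2 e3)⟩⟩

end H2.CI
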