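import Cfsg.Agent.Lib.H2.CI.Glob2
import Cfsg.Agent.Lib.H2.CI.Split
import Cfsg.Agent.Lib.H2.CI.Elem
import Cfsg.Agent.S1230

set_option autoImplicit false

/-! Groups in which centralizers of involutions are abelian: the main theorem. -/

namespace H2.CI

open Cfsg Subgroup H25.Isolated Matrix

universe u

/-- lower bound for the field -/
theorem four_le {G : Type*} [Group G] {F : Type} [Field F] [Fintype F] [CharP F 2]
    {O : Type} [CommGroup O] [Finite O] (hO : Odd (Nat.card O))
    (e : G ≃* SpecialLinearGroup (Fin 2) F × O) {t s : G} (ht : orderOf t = 2) (hs : orderOf s = 2)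
    (hst : s ≠ t) (hc : s * t = t * s) : 4 ≤ Fintype.card F := by
  classical
  have key : ∀ w : G, orderOf w = 2 → (e w).2 = 1 ∧ (e w).1 * (e w).1 = 1 ∧ (e w).1 ≠ 1 := by
    intro w hw
    have h1 : e w * e w = 1 := by rw [← map_mul, self_mul_self hw, map_one]
    have h2 : (e w).2 = 1 := eq_one_of_odd hO (congrArg Prod.snd h1)
    refine ⟨h2, congrArg Prod.fst h1, fun h3 => ?_⟩
    have h4 : e w = 1 := Prod.ext h3 h2
    have h5 : w = 1 := by apply e.injective; rw [h4, map_one]
    rw [h5, orderOf_one] at hw
    omega
  obtain ⟨t2, tt, t1⟩ := key t ht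
  obtain ⟨s2, ss, s1⟩ := key s hs
  have hne : (e s).1 ≠ (e t).1 := by
    intro h1
    apply hst
    apply e.injective
    exact Prod.ext h1 (by rw [t2, s2])
  have hcomm : (e s).1 * (e t).1 = (e t).1 * (e s).1 := by
    have := congrArg e hc
    rw [map_mul, map_mul] at this
    exact congrArg Prod.fst this
  have hcard := card_cent_invol tt t1
  have h2 := two_dvd_card (F := F)
  have h3 : 3 ≤ Fintype.card F := by
    rw [← hcard]
    let f : Fin 3 → centralizer ({(e t).1} : Set (SpecialLinearGroup (Fin 2) F)) :=
      ![1, ⟨(e t).1, mem_cent.2 rfl⟩, ⟨(e s).1, mem_cent.2 hcomm⟩]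
    have hf : Function.Injective f := by
      intro i j hij
      fin_cases i <;> fin_cases j
      · rfl
      · exact absurd (congrArg Subtype.val hij).symm t1
      · exact absurd (congrArg Subtype.val hij).symm s1
      · exact absurd (congrArg Subtype.val hij) t1
      · rfl
      · exact absurd (congrArg Subtype.val hij).symm hne
      · exact absurd (congrArg Subtype.val hij) s1
      · exact absurd (congrArg Subtype.val hij) hne
      · rfl
    have := Nat.card_le_card_of_injective f hf
    simpa using this
  omega

theorem charP_two_of_dvd {F : Type*} [Field F] [Fintype F] (h : 2 ∣ Fintype.card F) : CharP F 2 := by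
  obtain ⟨p, hp⟩ := CharP.exists F
  obtain ⟨n, hpp, hn⟩ := FiniteField.card F p
  rw [hn] at h
  have h1 := (Nat.prime_dvd_prime_iff_eq Nat.prime_two hpp).1 (Nat.prime_two.dvd_of_dvd_pow h)
  rw [h1]; exact hp

/-- `SL₂ = PSL₂` in characteristic two -/
noncomputable def slEquivPsl (F : Type*) [Field F] [Fintype F] [CharP F 2] :
    SpecialLinearGroup (Fin 2) F ≃* ProjectiveSpecialLinearGroup (Fin 2) F :=
  MulEquiv.ofBijective (QuotientGroup.mk' (center (SpecialLinearGroup (Fin 2) F)))
    ⟨by
      rw [← MonoidHom.ker_eq_bot_iff, QuotientGroup.ker_mk', H25.SL2Card.center_SL2_char_two],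
      QuotientGroup.mk'_surjective _⟩

/-- abelian quotient situation: centralizers modulo an odd central subgroup -/
theorem quot {G : Type u} [Group G] [Finite G] (h : CI G) (Z : Subgroup G) [Z.Normal]
    (hZ : Z ≤ center G) (hodd : Odd (Nat.card Z)) {a : G} (ha : orderOf a = 2) {x : G}
    (hx : (x : G ⧸ Z) * a = a * x) : x * a = a * x := by
  have h1 : x * a * x⁻¹ * a⁻¹ ∈ Z := by
    rw [← QuotientGroup.eq_one_iff]
    have e0 : ((x * a * x⁻¹ * a⁻¹ : G) : G ⧸ Z) = (x : G ⧸ Z) * a * (x : G ⧸ Z)⁻¹ * (a : G ⧸ Z)⁻¹ := rfl
    rw [e0, hx]; group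
  set z := x * a * x⁻¹ * a⁻¹ with hz
  have hzc := mem_center_iff.1 (hZ h1)
  have ha2 := self_mul_self ha
  have e1 : x * a * x⁻¹ = z * a := by rw [hz]; group
  have e2 : (z * a) * (z * a) = 1 := by
    rw [← e1]
    calc x * a * x⁻¹ * (x * a * x⁻¹) = x * (a * a) * x⁻¹ := by group
      _ = 1 := by rw [ha2]; group
  have e3 : z * z = 1 := by
    have : (z * a) * (z * a) = (z * z) * (a * a) := by
      calc (z * a) * (z * a) = z * (a * z) * a := by group
        _ = z * (z * a) * a := by rw [hzc a]
        _ = _ := by group
    rw [this, ha2, mul_one] at e2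
    exact e2
  have e4 : z = 1 := by
    have := eq_one_of_odd hodd (x := (⟨z, h1⟩ : Z)) (Subtype.ext e3)
    exact congrArg Subtype.val this
  rw [e4, one_mul] at e1
  exact mul_inv_eq_iff_eq_mul.1 e1

/-- involutions lift -/
theorem lift_invol {G : Type u} [Group G] [Finite G] (Z : Subgroup G) [Z.Normal]
    (hodd : Odd (Nat.card Z)) {w : G ⧸ Z} (hw : orderOf w = 2) :
    ∃ a : G, orderOf a = 2 ∧ (a : G ⧸ Z) = w := by
  obtain ⟨g, rfl⟩ := QuotientGroup.mk_surjective w
  obtain ⟨k, hk⟩ := hodd
  have h2 : (g : G ⧸ Z) ^ 2 = 1 := by rw [← hw]; exact pow_orderOf_eq_one _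
  have h3 : g ^ 2 ∈ Z := by
    rw [← QuotientGroup.eq_one_iff]
    exact h2
  have h4 : (g ^ 2) ^ Nat.card Z = 1 := by
    have := pow_card_eq_one' (x := (⟨g ^ 2, h3⟩ : Z))
    exact congrArg Subtype.val this
  have h5 : ((g ^ Nat.card Z : G) : G ⧸ Z) = g := by
    have e0 : ((g ^ Nat.card Z : G) : G ⧸ Z) = (g : G ⧸ Z) ^ Nat.card Z := rfl
    rw [e0, hk, pow_succ, pow_mul, h2, one_pow, one_mul]
  refine ⟨g ^ Nat.card Z, ?_, h5⟩
  rw [orderOf_eq_prime_iff]
  refine ⟨by rw [← pow_mul, mul_comm, pow_mul]; exact h4, fun h6 => ?_⟩
  rw [h6] at h5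
  have : (g : G ⧸ Z) = 1 := h5.symm
  rw [this, orderOf_one] at hw
  omega

/-- **Main theorem**, inductive form. -/
theorem main_aux (n : ℕ) : ∀ (G : Type u) [Group G] [Finite G], Nat.card G ≤ n → CI G →
    ∀ t s : G, orderOf t = 2 → orderOf s = 2 → s ≠ t → s * t = t * s →
    normalizer (centralizer ({t} : Set G) : Set G) ≠ ⊤ → Concl G := by
  classical
  induction n with
  | zero =>
    intro G _ _ hn
    have := Nat.card_pos (α := G)
    omega
  | succ n ih =>
    intro G _ _ hn h t s ht hs hst hc hM
    by_cases hZ : center G = ⊥
    · -- trivial center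
      by_cases hall : ∀ a ∈ centralizer ({t} : Set G), a ≠ 1 →
          centralizer ({a} : Set G) ≤ normalizer (centralizer ({t} : Set G) : Set G)
      · -- TI case
        have hSit : Sit t (centralizer ({t} : Set G)) (normalizer (centralizer ({t} : Set G) : Set G)) :=
          ⟨h, ht, rfl, rfl, hM, hall⟩
        have htM := hSit.AM hSit.tA
        have hsM : s ∈ normalizer (centralizer ({t} : Set G) : Set G) := hSit.AM (mem_cent.2 hc)
        have hmm : 2 ≤ mm (normalizer (centralizer ({t} : Set G) : Set G)) := by
          rw [mm]
          let f : Fin 2 → {w : G // orderOf w = 2 ∧ w ∈ normalizer (centralizer ({t} : Set G) : Set G)} :=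
            ![⟨t, ht, htM⟩, ⟨s, hs, hsM⟩]
          have hf : Function.Injective f := by
            intro i j hij
            fin_cases i <;> fin_cases j
            · rfl
            · exact absurd (congrArg Subtype.val hij).symm hst
            · exact absurd (congrArg Subtype.val hij) hst
            · rfl
          have := Nat.card_le_card_of_injective f hf
          simpa using this
        have hel := hSit.elem hmm
        -- Sylow
        have h2 : IsPGroup 2 (centralizer ({t} : Set G)) := by
          intro a
          exact ⟨1, by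
            rw [pow_one, pow_two]
            exact Subtype.ext (hel a a.2)⟩
        obtain ⟨T, hT⟩ := h2.exists_le_sylow
        have hTeq : (T : Subgroup G) = centralizer ({t} : Set G) := by
          apply le_antisymm _ hT
          intro y hy
          rw [mem_cent]
          exact comm_of_isPGroup h T.isPGroup' hy (hT (mem_cent.2 rfl))
        have hnc : ¬ IsCyclic (T : Subgroup G) := by
          intro hcyc
          have htT : t ∈ (T : Subgroup G) := by rw [hTeq]; exact mem_cent.2 rfl
          have hsT : s ∈ (T : Subgroup G) := by rw [hTeq]; exact mem_cent.2 hc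
          apply hst
          obtain ⟨g, hg⟩ := hcyc.exists_generator
          have hgg : (g : G) * g = 1 := hel _ (by rw [← hTeq]; exact g.2)
          have key : ∀ w : G, w ∈ (T : Subgroup G) → w ≠ 1 → w = g := by
            intro w hw hw1
            obtain ⟨k, hk⟩ := hg ⟨w, hw⟩
            have hk' : (g : G) ^ k = w := congrArg Subtype.val hk
            rcases Int.even_or_odd k with ⟨m, hm⟩ | ⟨m, hm⟩
            · exfalso
              apply hw1
              rw [← hk', hm, ← two_mul, _root_.zpow_mul, zpow_two, hgg, _root_.one_zpow]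
            · rw [← hk', hm, _root_.zpow_add, _root_.zpow_mul, zpow_two, hgg, _root_.one_zpow, one_mul, zpow_one]
          have ht1 : t ≠ 1 := hSit.t1
          have hs1 : s ≠ 1 := by
            intro h1; rw [h1, orderOf_one] at hs; omega
          rw [key s hsT hs1, key t htT ht1]
        have hnn : ¬ (T : Subgroup G).Normal := by
          intro hN
          apply hM
          rw [← hTeq]
          exact normalizer_eq_top_iff.2 hN
        have hC : ∀ w : G, orderOf w = 2 → IsMulCommutative (centralizer ({w} : Set G)) ∧
            ∀ c ∈ centralizer ({w} : Set G), c ^ 2 = 1 := by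
          intro w hw
          refine ⟨⟨⟨fun a b => Subtype.ext (comm_of_mem h hw a.2 b.2)⟩⟩, fun c hcw => ?_⟩
          obtain ⟨g, hg⟩ := isConj_iff.1 (hSit.isConj_iff'.2 hw)
          rw [← hg, ← conj_cent, H25.StrEmb.mem_map_conj] at hcw
          have h3 := hel _ hcw
          rw [pow_two]
          calc c * c = g * ((g⁻¹ * c * g) * (g⁻¹ * c * g)) * g⁻¹ := by group
            _ = 1 := by rw [h3]; group
        obtain ⟨F, _, _, hFc, ⟨e⟩⟩ := Cfsg.Agent.S1230.result T hnc hnn hC
        have hchar : CharP F 2 := by
          have htT : t ∈ (T : Subgroup G) := by rw [hTeq]; exact mem_cent.2 rfl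
          have h3 := Subgroup.orderOf_dvd_natCard _ htT
          rw [ht] at h3
          have h4 : 2 ∣ Fintype.card F := by rw [hFc]; exact h3
          exact charP_two_of_dvd h4
        let e2 := slEquivPsl F
        refine ⟨F, inferInstance, inferInstance, Multiplicative (Fin 1), inferInstance, inferInstance,
          hchar, by simp, ⟨?_⟩⟩
        exact e.trans (e2.symm.trans (MulEquiv.prodUnique).symm)
      · -- not TI
        exfalso
        push Not at hall
        obtain ⟨x, hxA, hx1, hxn⟩ := hall
        have hncen : ∀ y : G, y ≠ 1 → centralizer ({y} : Set G) ≠ ⊤ := by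
          intro y hy h1
          apply hy
          rw [← mem_bot, ← hZ, mem_center_iff]
          intro g
          have : g ∈ centralizer ({y} : Set G) := by rw [h1]; trivial
          exact mem_cent.1 this
        refine glob h ht (mem_cent.1 hxA).symm hx1 hxn (hncen x hx1) ?_
        intro y hy1 hyt hyn
        have hCH : centralizer ({t} : Set G) ≤ centralizer ({y} : Set G) := by
          intro z hz
          rw [mem_cent] at hz ⊢
          exact h t ht z y hz hyt
        have htH : t ∈ centralizer ({y} : Set G) := hCH (mem_cent.2 rfl)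
        have hsH : s ∈ centralizer ({y} : Set G) := hCH (mem_cent.2 hc)
        have hcard : Nat.card (centralizer ({y} : Set G)) ≤ n := by
          have h1 : Nat.card (centralizer ({y} : Set G)) < Nat.card G := by
            by_contra hcon
            push Not at hcon
            exact hncen y hy1 (Subgroup.eq_top_of_le_card _ hcon)
          omega
        obtain ⟨F, _, _, O, _, _, hch, hO, ⟨e⟩⟩ := ih (centralizer ({y} : Set G)) hcard
          (h.subgroup _) ⟨t, htH⟩ ⟨s, hsH⟩ (by rw [← Subgroup.orderOf_coe]; exact ht)
          (by rw [← Subgroup.orderOf_coe]; exact hs) (fun h1 => hst (congrArg Subtype.val h1))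
          (Subtype.ext hc) (norm_sub_ne htH hCH hyn)
        have h4 : 4 ≤ Fintype.card F := four_le hO e (t := ⟨t, htH⟩) (s := ⟨s, hsH⟩)
          (by rw [← Subgroup.orderOf_coe]; exact ht)
          (by rw [← Subgroup.orderOf_coe]; exact hs) (fun h1 => hst (congrArg Subtype.val h1))
          (Subtype.ext hc)
        exact ⟨F, inferInstance, inferInstance, O, inferInstance, inferInstance, hch, h4, hO, ⟨e⟩⟩
    · -- nontrivial center
      have hodd : Odd (Nat.card (center G)) := by
        rw [← Nat.not_even_iff_odd]
        intro hev
        obtain ⟨z, hz⟩ := exists_prime_orderOf_dvd_card' (G := center G) 2 (even_iff_two_dvd.1 hev)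
        rw [← Subgroup.orderOf_coe] at hz
        apply hM
        rw [eq_top_iff]
        intro g _
        have hab : ∀ x y : G, x * y = y * x := fun x y =>
          h z hz x y (mem_center_iff.1 z.2 x) (mem_center_iff.1 z.2 y)
        rw [mem_normalizer_iff]
        intro y
        have : g * y * g⁻¹ = y := by rw [hab g y]; group
        rw [this]
      have hqcard : Nat.card (G ⧸ center G) ≤ n := by
        have h1 := Subgroup.card_eq_card_quotient_mul_card_subgroup (center G)
        have h2 : 1 < Nat.card (center G) := by
          rw [Finite.one_lt_card_iff_nontrivial]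
          exact (Subgroup.nontrivial_iff_ne_bot _).2 hZ
        have h3 := Nat.card_pos (α := G ⧸ center G)
        have h4 : Nat.card (G ⧸ center G) * 2 ≤ Nat.card G := by
          rw [h1]; exact Nat.mul_le_mul_left _ h2
        omega
      have hCIq : CI (G ⧸ center G) := by
        intro w hw x y hx hy
        obtain ⟨a, ha, rfl⟩ := lift_invol (center G) hodd hw
        obtain ⟨x, rfl⟩ := QuotientGroup.mk_surjective x
        obtain ⟨y, rfl⟩ := QuotientGroup.mk_surjective y
        have h1 := quot h (center G) le_rfl hodd ha hx
        have h2 := quot h (center G) le_rfl hodd ha hy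
        have h3 := h a ha x y h1 h2
        exact_mod_cast congrArg (QuotientGroup.mk (s := center G)) h3
      have hord : ∀ w : G, orderOf w = 2 → orderOf (w : G ⧸ center G) = 2 := by
        intro w hw
        rw [orderOf_eq_prime_iff]
        refine ⟨?_, fun h1 => ?_⟩
        · have : w ^ 2 = 1 := by rw [← hw]; exact pow_orderOf_eq_one w
          exact_mod_cast congrArg (QuotientGroup.mk (s := center G)) this
        · rw [QuotientGroup.eq_one_iff] at h1
          have h2 := eq_one_of_odd hodd (x := (⟨w, h1⟩ : center G)) (Subtype.ext (self_mul_self hw))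
          have h3 : w = 1 := congrArg Subtype.val h2
          rw [h3, orderOf_one] at hw
          omega
      have hstq : (s : G ⧸ center G) ≠ t := by
        intro h1
        have h2 : s⁻¹ * t ∈ center G := QuotientGroup.eq.1 h1
        have hsi := inv_eq_self_of_sq (self_mul_self hs)
        have h3 : (s⁻¹ * t) * (s⁻¹ * t) = 1 := by
          rw [hsi]
          calc s * t * (s * t) = s * t * (t * s) := by rw [hc]
            _ = s * (t * t) * s := by group
            _ = 1 := by rw [self_mul_self ht, mul_one, self_mul_self hs]
        have h4 := eq_one_of_odd hodd (x := (⟨s⁻¹ * t, h2⟩ : center G)) (Subtype.ext h3)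
        have h5 : s⁻¹ * t = 1 := congrArg Subtype.val h4
        exact hst (inv_mul_eq_one.1 h5)
      have hcq : (s : G ⧸ center G) * t = t * s := by
        exact_mod_cast congrArg (QuotientGroup.mk (s := center G)) hc
      have hMq : normalizer (centralizer ({(t : G ⧸ center G)} : Set (G ⧸ center G)) : Set (G ⧸ center G)) ≠ ⊤ := by
        intro h1
        apply hM
        rw [eq_top_iff]
        intro g _
        have h2 : (g : G ⧸ center G) ∈
          normalizer (centralizer ({(t : G ⧸ center G)} : Set (G ⧸ center G)) : Set (G ⧸ center G)) := by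
          rw [h1]; trivial
        have key : ∀ y : G, y ∈ centralizer ({t} : Set G) ↔
            (y : G ⧸ center G) ∈ centralizer ({(t : G ⧸ center G)} : Set (G ⧸ center G)) := by
          intro y
          rw [mem_cent, mem_cent]
          constructor
          · intro h3
            exact_mod_cast congrArg (QuotientGroup.mk (s := center G)) h3
          · intro h3
            exact quot h (center G) le_rfl hodd ht h3
        rw [mem_normalizer_iff] at h2 ⊢
        intro y
        rw [key, key]
        exact h2 y
      obtain ⟨F, _, _, O, _, _, hch, hO, ⟨e⟩⟩ := ih (G ⧸ center G) hqcard hCIq t s (hord t ht)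
        (hord s hs) hstq hcq hMq
      have h4 : 4 ≤ Fintype.card F := four_le hO e (hord t ht) (hord s hs) hstq hcq
      have hker : (e.toMonoidHom.comp (QuotientGroup.mk' (center G))).ker = center G := by
        ext x
        rw [MonoidHom.mem_ker]
        constructor
        · intro h1
          have h2 : (QuotientGroup.mk' (center G)) x = 1 := by
            apply e.injective
            rw [map_one]; exact h1
          exact (QuotientGroup.eq_one_iff x).1 h2
        · intro h1
          have h2 : (QuotientGroup.mk' (center G)) x = 1 := (QuotientGroup.eq_one_iff x).2 h1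
          show e ((QuotientGroup.mk' (center G)) x) = 1
          rw [h2, map_one]
      refine split h h4 hO (e.toMonoidHom.comp (QuotientGroup.mk' (center G)))
        (e.surjective.comp (QuotientGroup.mk'_surjective _)) hker.le ?_
      rw [hker]; exact hodd

end H2.CI
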