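import Mathlib
import Cfsg.Prelude.Def_Involutions
import Cfsg.Agent.Lib.H25.StrEmb

set_option autoImplicit false

/-! Groups in which centralizers of involutions are abelian: group theoretic part. -/

namespace H2.CI

open Cfsg Subgroup H25.Isolated

variable {G : Type*} [Group G]

/-- centralizers of involutions are abelian -/
def CI (G : Type*) [Group G] : Prop :=
  ∀ t : G, orderOf t = 2 → ∀ x y : G, x * t = t * x → y * t = t * y → x * y = y * x

theorem mem_cent {t x : G} : x ∈ centralizer ({t} : Set G) ↔ x * t = t * x := by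
  rw [mem_centralizer_singleton_iff]

theorem cent_le (h : CI G) {s t : G} (ht : orderOf t = 2)
    (hst : s * t = t * s) : centralizer ({t} : Set G) ≤ centralizer {s} := by
  intro x hx
  rw [mem_cent] at hx ⊢
  exact h t ht x s hx hst

theorem cent_eq (h : CI G) {s t : G} (hs : orderOf s = 2) (ht : orderOf t = 2)
    (hst : s * t = t * s) : centralizer ({s} : Set G) = centralizer {t} :=
  le_antisymm (cent_le h hs hst.symm) (cent_le h ht hst)

theorem comm_of_mem (h : CI G) {t : G} (ht : orderOf t = 2) {x y : G}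
    (hx : x ∈ centralizer ({t} : Set G)) (hy : y ∈ centralizer ({t} : Set G)) : x * y = y * x :=
  h t ht x y (mem_cent.1 hx) (mem_cent.1 hy)

theorem cent_eq_of_mem (h : CI G) {s t : G} (hs : orderOf s = 2) (ht : orderOf t = 2)
    (hst : s ∈ centralizer ({t} : Set G)) : centralizer ({s} : Set G) = centralizer {t} :=
  cent_eq h hs ht (mem_cent.1 hst)

theorem orderOf_two_of {x : G} (h : x * x = 1) (h1 : x ≠ 1) : orderOf x = 2 := by
  rw [orderOf_eq_prime_iff]
  exact ⟨by rw [pow_two]; exact h, h1⟩

theorem conj_cent {t g : G} : (centralizer ({t} : Set G)).map (MulAut.conj g).toMonoidHom =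
    centralizer ({g * t * g⁻¹} : Set G) := by
  ext x
  rw [H25.StrEmb.mem_map_conj, mem_cent, mem_cent]
  constructor
  · intro h
    have : x * (g * t * g⁻¹) = g * ((g⁻¹ * x * g) * t) * g⁻¹ := by group
    rw [this, h]; group
  · intro h
    have : g⁻¹ * x * g * t = g⁻¹ * (x * (g * t * g⁻¹)) * g := by group
    rw [this, h]; group

theorem mem_norm_iff {A : Subgroup G} {g : G} :
    g ∈ normalizer (A : Set G) ↔ A.map (MulAut.conj g).toMonoidHom = A := by
  rw [mem_normalizer_iff]
  constructor
  · intro h
    ext x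
    rw [H25.StrEmb.mem_map_conj]
    constructor
    · intro hx
      have := (h (g⁻¹ * x * g)).1 hx
      have e : g * (g⁻¹ * x * g) * g⁻¹ = x := by group
      rwa [e] at this
    · intro hx
      rw [h (g⁻¹ * x * g)]
      have e : g * (g⁻¹ * x * g) * g⁻¹ = x := by group
      rw [e]; exact hx
  · intro h x
    constructor
    · intro hx
      rw [← h, H25.StrEmb.mem_map_conj]
      have e : g⁻¹ * (g * x * g⁻¹) * g = x := by group
      rw [e]; exact hx
    · intro hx
      rw [← h, H25.StrEmb.mem_map_conj] at hx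
      have e : g⁻¹ * (g * x * g⁻¹) * g = x := by group
      rw [e] at hx; exact hx

theorem inv_mem_of_norm (h : CI G) {t w : G} (ht : orderOf t = 2) (hw : orderOf w = 2)
    (hwM : w ∈ normalizer (centralizer ({t} : Set G) : Set G)) : w ∈ centralizer ({t} : Set G) := by
  have htA : t ∈ centralizer ({t} : Set G) := mem_cent.2 rfl
  have h1 : w * t * w⁻¹ ∈ centralizer ({t} : Set G) := (mem_normalizer_iff.1 hwM t).1 htA
  have hw2 := self_mul_self hw
  have ht2 := self_mul_self ht
  have hwi : w⁻¹ = w := inv_eq_self_of_sq hw2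
  set t' := w * t * w⁻¹ with ht'
  have hc : t' * t = t * t' := mem_cent.1 h1
  by_cases he : t' = t
  · rw [mem_cent, ← mul_inv_eq_iff_eq_mul]
    exact he
  · have ht'2 : t' * t' = 1 := sq_one_conj ht2
    have hv2 : (t * t') * (t * t') = 1 := by
      calc (t * t') * (t * t') = t * (t' * t) * t' := by group
        _ = t * (t * t') * t' := by rw [hc]
        _ = (t * t) * (t' * t') := by group
        _ = 1 := by rw [ht2, ht'2, one_mul]
    have hv1 : t * t' ≠ 1 := by
      intro h2
      apply he
      have : t' = t⁻¹ := (inv_eq_of_mul_eq_one_right h2).symm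
      rw [this, inv_eq_self_of_sq ht2]
    have hv := orderOf_two_of hv2 hv1
    have hvA : t * t' ∈ centralizer ({t} : Set G) := mul_mem htA h1
    rw [← cent_eq_of_mem h hv ht hvA, mem_cent]
    have e : w * (t * t') * w⁻¹ = t' * (w * w * t * (w⁻¹ * w⁻¹)) := by rw [ht']; group
    rw [hw2, ← mul_inv_rev, hw2, one_mul, inv_one, mul_one, hc] at e
    rw [← mul_inv_eq_iff_eq_mul]
    exact e

/-- The situation in which the normalizer of `C(t)` is proper. -/
theorem stronglyEmbedded [Finite G] (h : CI G) {t : G} (ht : orderOf t = 2)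
    (hM : normalizer (centralizer ({t} : Set G) : Set G) ≠ ⊤) :
    IsStronglyEmbedded (normalizer (centralizer ({t} : Set G) : Set G)) := by
  refine ⟨hM, ?_, ?_⟩
  · have h1 : t ∈ normalizer (centralizer ({t} : Set G) : Set G) := le_normalizer (mem_cent.2 rfl)
    have := Subgroup.orderOf_dvd_natCard _ h1
    rw [ht] at this
    exact even_iff_two_dvd.2 this
  · intro g hg
    rw [← Nat.not_even_iff_odd]
    intro hev
    obtain ⟨w, hw⟩ := exists_prime_orderOf_dvd_card' (G := ↥(normalizer (centralizer ({t} : Set G) : Set G) ⊓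
      (normalizer (centralizer ({t} : Set G) : Set G)).map (MulAut.conj g).toMonoidHom)) 2
      (even_iff_two_dvd.1 hev)
    rw [← Subgroup.orderOf_coe] at hw
    obtain ⟨w, hw0⟩ := w
    obtain ⟨hw1, hw2⟩ := mem_inf.1 hw0
    simp only at hw
    rw [H25.StrEmb.mem_map_conj] at hw2
    have hw' : orderOf (g⁻¹ * w * g) = 2 := by
      have : g⁻¹ * w * g = MulAut.conj g⁻¹ w := by simp
      rw [this, MulEquiv.orderOf_eq, hw]
    have a1 := cent_eq_of_mem h hw ht (inv_mem_of_norm h ht hw hw1)
    have a2 := cent_eq_of_mem h hw' ht (inv_mem_of_norm h ht hw' hw2)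
    apply hg
    rw [mem_norm_iff]
    rw [← a2, conj_cent]
    have e : g * (g⁻¹ * w * g) * g⁻¹ = w := by group
    rw [e, a1, a2]

end H2.CI
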