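import Cfsg.Agent.Lib.H2.CI.TI3
import Cfsg.Agent.Lib.H18.CharInd

set_option autoImplicit false

/-! TI situation: numerical facts. -/

namespace H2.CI

open Cfsg Subgroup H25.Isolated

universe u

variable {G : Type u} [Group G]

namespace Sit

variable {t : G} {A M : Subgroup G}

theorem isConj_iff' [Finite G] (h : Sit t A M) {x : G} : IsConj t x ↔ orderOf x = 2 := by
  constructor
  · intro hx
    obtain ⟨g, rfl⟩ := isConj_iff.1 hx
    exact orderOf_conj h.t2
  · intro hx
    exact H25.StrEmb.isConj_of_involutions h.str h.t2 hx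

/-- factors of an element of `A#` into involutions lie in `A` -/
theorem factor_mem [Finite G] (h : Sit t A M) {x y a : G} (hx : orderOf x = 2) (hy : orderOf y = 2)
    (ha : a ∈ A) (ha1 : a ≠ 1) (hxy : x * y = a) : x ∈ A := by
  have hx2 := self_mul_self hx
  have hy2 := self_mul_self hy
  have hxi := inv_eq_self_of_sq hx2
  have hyi := inv_eq_self_of_sq hy2
  have h1 : x⁻¹ * a * x = a⁻¹ := by
    rw [← hxy, mul_inv_rev, hxi, hyi]
    calc x * (x * y) * x = (x * x) * (y * x) := by group
      _ = y * x := by rw [hx2, one_mul]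
  have h2 : x ∈ M := h.ti ha ha1 (by rw [h1]; exact inv_mem ha)
  exact h.invol_mem hx h2

theorem card_pairs_zero [Finite G] (h : Sit t A M) {a : G} (ha : a ∈ A) (ha1 : a ≠ 1)
    (ha2 : a * a ≠ 1) :
    Nat.card {p : G × G // IsConj t p.1 ∧ IsConj t p.2 ∧ p.1 * p.2 = a} = 0 := by
  rw [Nat.card_eq_zero]
  left
  constructor
  rintro ⟨⟨x, y⟩, hx, hy, hxy⟩
  rw [h.isConj_iff'] at hx hy
  simp only at hx hy hxy
  have hxA := h.factor_mem hx hy ha ha1 hxy
  have hx2 := self_mul_self hx
  have hy2 := self_mul_self hy
  have hyA : y ∈ A := by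
    have : y = x⁻¹ * a := by rw [← hxy]; group
    rw [this]; exact mul_mem (inv_mem hxA) ha
  apply ha2
  have hc := h.comm hxA hyA
  calc a * a = (x * y) * (x * y) := by rw [hxy]
    _ = x * (y * x) * y := by group
    _ = (x * x) * (y * y) := by rw [← hc]; group
    _ = 1 := by rw [hx2, hy2, one_mul]

theorem card_pairs_inv [Finite G] (h : Sit t A M) {a : G} (ha : a ∈ A) (ha2 : orderOf a = 2) :
    Nat.card {p : G × G // IsConj t p.1 ∧ IsConj t p.2 ∧ p.1 * p.2 = a} + 1 = mm M := by
  classical
  have haa := self_mul_self ha2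
  have hai := inv_eq_self_of_sq haa
  have ha1 : a ≠ 1 := by
    intro h1; rw [h1, orderOf_one] at ha2; omega
  have e : {p : G × G // IsConj t p.1 ∧ IsConj t p.2 ∧ p.1 * p.2 = a} ≃
      {s : {t : G // orderOf t = 2 ∧ t ∈ M} // s ≠ ⟨a, ha2, h.AM ha⟩} :=
    { toFun := fun p => ⟨⟨p.1.1, h.isConj_iff'.1 p.2.1, h.AM (h.factor_mem
        (h.isConj_iff'.1 p.2.1) (h.isConj_iff'.1 p.2.2.1) ha ha1 p.2.2.2)⟩, by
          intro h1
          have h2 : p.1.1 = a := congrArg Subtype.val h1
          have h3 := p.2.2.2
          rw [h2] at h3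
          have h4 : p.1.2 = 1 := by
            have := mul_left_cancel (h3.trans (mul_one a).symm)
            exact this
          have h5 := h.isConj_iff'.1 p.2.2.1
          rw [h4, orderOf_one] at h5
          omega⟩
      invFun := fun s => ⟨(s.1.1, s.1.1 * a), h.isConj_iff'.2 s.1.2.1, by
          have hsA := h.invol_mem s.1.2.1 s.1.2.2
          have hs2 := self_mul_self s.1.2.1
          rw [h.isConj_iff']
          apply orderOf_two_of
          · have hc := h.comm hsA ha
            calc (s.1.1 * a) * (s.1.1 * a) = s.1.1 * (a * s.1.1) * a := by group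
              _ = (s.1.1 * s.1.1) * (a * a) := by rw [← hc]; group
              _ = 1 := by rw [hs2, haa, one_mul]
          · intro h1
            apply s.2
            apply Subtype.ext
            show s.1.1 = a
            have h2 : s.1.1 = a⁻¹ := eq_inv_of_mul_eq_one_left h1
            rw [h2, hai], by
          show s.1.1 * (s.1.1 * a) = a
          rw [← mul_assoc, self_mul_self s.1.2.1, one_mul]⟩
      left_inv := by
        rintro ⟨⟨x, y⟩, hx, hy, hxy⟩
        apply Subtype.ext
        simp only at hxy ⊢
        apply Prod.ext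
        · rfl
        · show x * a = y
          rw [← hxy, ← mul_assoc, self_mul_self (h.isConj_iff'.1 hx), one_mul]
      right_inv := by
        rintro ⟨⟨x, hx⟩, hs⟩
        rfl }
  rw [Nat.card_congr e, mm]
  have := Fintype.ofFinite {t : G // orderOf t = 2 ∧ t ∈ M}
  rw [Nat.card_eq_fintype_card, Nat.card_eq_fintype_card, Fintype.card_subtype_compl,
    Fintype.card_subtype_eq]
  have : 0 < Fintype.card {t : G // orderOf t = 2 ∧ t ∈ M} := Fintype.card_pos_iff.2
    ⟨⟨t, h.t2, h.AM h.tA⟩⟩
  omega

/-- the squaring map of `A` -/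
def sq (h : Sit t A M) : A →* A where
  toFun a := a * a
  map_one' := by simp
  map_mul' a b := by
    apply Subtype.ext
    show ((a : G) * b) * ((a : G) * b) = (a * a) * (b * b)
    have := h.comm a.2 b.2
    calc ((a : G) * b) * ((a : G) * b) = a * (b * a) * b := by group
      _ = (a * a) * (b * b) := by rw [← this]; group

theorem card_ker [Finite G] (h : Sit t A M) : Nat.card h.sq.ker = mm M + 1 := by
  classical
  rw [mm, ← Finite.card_option]
  apply Nat.card_congr
  refine
    { toFun := fun a => if ha : ((a : A) : G) = 1 then none else some ⟨(a : A), orderOf_two_of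
        (by have := a.2; rw [MonoidHom.mem_ker] at this; exact congrArg Subtype.val this) ha,
        h.AM (a : A).2⟩
      invFun := fun o => match o with
        | none => 1
        | some s => ⟨⟨s.1, h.invol_mem s.2.1 s.2.2⟩, by
          rw [MonoidHom.mem_ker]
          exact Subtype.ext (self_mul_self s.2.1)⟩
      left_inv := ?_
      right_inv := ?_ }
  · intro a
    by_cases ha : ((a : A) : G) = 1
    · simp only [ha, dite_true]
      apply Subtype.ext; apply Subtype.ext
      exact ha.symm
    · simp only [ha, dite_false]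
  · intro o
    match o with
    | none => simp
    | some s =>
      have : ((s : G) : G) ≠ 1 := by
        intro h1
        have := s.2.1
        rw [h1, orderOf_one] at this
        omega
      simp [this]

theorem index_A [Finite G] (h : Sit t A M) : (A.subgroupOf M).index = mm M := by
  have h1 := h.card_M
  rw [← Subgroup.index_mul_card (A.subgroupOf M),
    Nat.card_congr (Subgroup.subgroupOfEquivOfLe h.AM).toEquiv] at h1
  exact Nat.eq_of_mul_eq_mul_right Nat.card_pos h1

/-- if `A` is not elementary, then `|A| ≥ (m+1)²` -/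
theorem card_A_ge [Finite G] (h : Sit t A M) {a : G} (ha : a ∈ A) (ha2 : a * a ≠ 1) :
    (mm M + 1) * (mm M + 1) ≤ Nat.card A := by
  classical
  have h1 : Nat.card A = Nat.card h.sq.range * Nat.card h.sq.ker := by
    rw [Subgroup.card_eq_card_quotient_mul_card_subgroup h.sq.ker,
      Nat.card_congr (QuotientGroup.quotientKerEquivRange h.sq).toEquiv]
  rw [h1, h.card_ker]
  apply Nat.mul_le_mul_right
  -- the class of `y = a²` in `M`
  set y : M := ⟨a * a, h.AM (mul_mem ha ha)⟩ with hy
  have h2 := H18.CharInd.card_isConj_eq_index y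
  have h3 : centralizer ({y} : Set M) = A.subgroupOf M := by
    ext x
    rw [mem_centralizer_singleton_iff, mem_subgroupOf]
    constructor
    · intro hx
      exact h.frob x.2 (mul_mem ha ha) ha2 (congrArg Subtype.val hx)
    · intro hx
      exact Subtype.ext (h.comm hx (mul_mem ha ha))
  rw [h3, h.index_A] at h2
  rw [← h2, ← Finite.card_option]
  let f : Option {x : M // IsConj y x} → h.sq.range := fun o => match o with
    | none => 1
    | some x => ⟨⟨(x : M), by
        obtain ⟨g, hg⟩ := isConj_iff.1 x.2
        rw [← hg]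
        exact h.conj_M g.2 (mul_mem ha ha)⟩, by
        obtain ⟨g, hg⟩ := isConj_iff.1 x.2
        refine ⟨⟨g * a * (g : G)⁻¹, h.conj_M g.2 ha⟩, ?_⟩
        apply Subtype.ext
        have : ((x : M) : G) = g * (a * a) * (g : G)⁻¹ := by rw [← hg]; rfl
        show (g * a * (g : G)⁻¹) * (g * a * (g : G)⁻¹) = ((x : M) : G)
        rw [this]; group⟩
  have hne : ∀ x : {x : M // IsConj y x}, ((x : M) : G) ≠ 1 := by
    intro x hx
    obtain ⟨g, hg⟩ := isConj_iff.1 x.2
    apply ha2
    have : ((x : M) : G) = g * (a * a) * (g : G)⁻¹ := by rw [← hg]; rfl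
    rw [this] at hx
    have e : a * a = (g : G)⁻¹ * (g * (a * a) * (g : G)⁻¹) * g := by group
    rw [e, hx]; group
  apply Nat.card_le_card_of_injective f
  intro o p hop
  match o, p with
  | none, none => rfl
  | none, some x => exact absurd (congrArg (fun z : h.sq.range => ((z : A) : G)) hop).symm (hne x)
  | some x, none => exact absurd (congrArg (fun z : h.sq.range => ((z : A) : G)) hop) (hne x)
  | some x, some x' =>
    have : ((x : M) : G) = ((x' : M) : G) := congrArg (fun z : h.sq.range => ((z : A) : G)) hop
    exact congrArg some (Subtype.ext (Subtype.ext this))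

end Sit

end H2.CI
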