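import Cfsg.Agent.Lib.H2.CI.Loc
import Cfsg.Agent.Lib.H18.CharInd

set_option autoImplicit false

/-! No proper centralizer `SL₂(F) × O` with `O ≠ 1`. -/

namespace H2.CI

open Cfsg Subgroup H25.Isolated Matrix

universe u

variable {G : Type u} [Group G] [Finite G]

theorem strEmb_of {t : G} (ht : orderOf t = 2) {H : Subgroup G}
    (hCH : centralizer ({t} : Set G) ≤ H)
    (hconj : ∀ s ∈ H, orderOf s = 2 → ∃ k ∈ H, s = k * t * k⁻¹) (hne : H ≠ ⊤) :
    IsStronglyEmbedded H := by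
  have htH : t ∈ H := hCH (mem_cent.2 rfl)
  refine ⟨hne, ?_, ?_⟩
  · have := Subgroup.orderOf_dvd_natCard _ htH
    rw [ht] at this
    exact even_iff_two_dvd.2 this
  · intro g hg
    rw [← Nat.not_even_iff_odd]
    intro hev
    obtain ⟨w, hw⟩ := exists_prime_orderOf_dvd_card' (G := ↥(H ⊓ H.map (MulAut.conj g).toMonoidHom)) 2
      (even_iff_two_dvd.1 hev)
    rw [← Subgroup.orderOf_coe] at hw
    obtain ⟨w, hw0⟩ := w
    obtain ⟨hw1, hw2⟩ := mem_inf.1 hw0
    simp only at hw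
    rw [H25.StrEmb.mem_map_conj] at hw2
    have hw' : orderOf (g⁻¹ * w * g) = 2 := by
      have : g⁻¹ * w * g = MulAut.conj g⁻¹ w := by simp
      rw [this, MulEquiv.orderOf_eq, hw]
    obtain ⟨k, hk, hk2⟩ := hconj w hw1 hw
    obtain ⟨l, hl, hl2⟩ := hconj _ hw2 hw'
    apply hg
    have h1 : l⁻¹ * g⁻¹ * k ∈ H := by
      apply hCH
      rw [mem_cent]
      have h2 : g⁻¹ * (k * t * k⁻¹) * g = l * t * l⁻¹ := by rw [← hk2]; exact hl2
      calc l⁻¹ * g⁻¹ * k * t = l⁻¹ * (g⁻¹ * (k * t * k⁻¹) * g) * g⁻¹ * k := by group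
        _ = t * (l⁻¹ * g⁻¹ * k) := by rw [h2]; group
    have h3 : l * (l⁻¹ * g⁻¹ * k) * k⁻¹ ∈ H := mul_mem (mul_mem hl h1) (inv_mem hk)
    have h4 : l * (l⁻¹ * g⁻¹ * k) * k⁻¹ = g⁻¹ := by group
    rw [h4] at h3
    simpa using inv_mem h3

theorem CI.subgroup (h : CI G) (H : Subgroup G) : CI H := by
  intro t ht x y hx hy
  apply Subtype.ext
  exact h t (by rw [Subgroup.orderOf_coe]; exact ht) x y (congrArg Subtype.val hx)
    (congrArg Subtype.val hy)

theorem norm_sub_ne {t : G} {H : Subgroup G} (htH : t ∈ H)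
    (hCH : centralizer ({t} : Set G) ≤ H) (hn : ¬ H ≤ normalizer (centralizer ({t} : Set G) : Set G)) :
    normalizer (centralizer ({(⟨t, htH⟩ : H)} : Set H) : Set H) ≠ ⊤ := by
  intro h1
  apply hn
  intro k hk
  have h2 : (⟨k, hk⟩ : H) ∈ normalizer (centralizer ({(⟨t, htH⟩ : H)} : Set H) : Set H) := by
    rw [h1]; trivial
  rw [mem_normalizer_iff] at h2 ⊢
  intro y
  have key : ∀ z : H, z ∈ centralizer ({(⟨t, htH⟩ : H)} : Set H) ↔ (z : G) ∈ centralizer ({t} : Set G) := by
    intro z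
    rw [mem_cent, mem_cent]
    constructor
    · intro h3; exact congrArg Subtype.val h3
    · intro h3; exact Subtype.ext h3
  constructor
  · intro hy
    exact (key _).1 ((h2 ⟨y, hCH hy⟩).1 ((key _).2 hy))
  · intro hy
    have hyH : y ∈ H := by
      have := mul_mem (mul_mem (inv_mem hk) (hCH hy)) hk
      have e : k⁻¹ * (k * y * k⁻¹) * k = y := by group
      rwa [e] at this
    exact (key ⟨y, hyH⟩).1 ((h2 ⟨y, hyH⟩).2 ((key _).2 hy))

/-- involutions of an overgroup of `C(t)` not contained in `N(C(t))` are conjugate -/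
theorem conj_of_le (h : CI G) {t : G} (ht : orderOf t = 2) {H : Subgroup G}
    (hCH : centralizer ({t} : Set G) ≤ H) (hn : ¬ H ≤ normalizer (centralizer ({t} : Set G) : Set G))
    {s : G} (hs : s ∈ H) (hs2 : orderOf s = 2) : ∃ k ∈ H, s = k * t * k⁻¹ := by
  have htH : t ∈ H := hCH (mem_cent.2 rfl)
  have ht' : orderOf (⟨t, htH⟩ : H) = 2 := by rw [← Subgroup.orderOf_coe]; exact ht
  have hM := norm_sub_ne htH hCH hn
  have hstr := stronglyEmbedded (h.subgroup H) ht' hM
  have hs' : orderOf (⟨s, hs⟩ : H) = 2 := by rw [← Subgroup.orderOf_coe]; exact hs2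
  obtain ⟨k, hk⟩ := isConj_iff.1 (H25.StrEmb.isConj_of_involutions hstr ht' hs')
  exact ⟨k, k.2, (congrArg Subtype.val hk).symm⟩

/-- number of involutions of `H` -/
theorem card_invol_mul (h : CI G) {t : G} (ht : orderOf t = 2) {H : Subgroup G}
    (hCH : centralizer ({t} : Set G) ≤ H) (hn : ¬ H ≤ normalizer (centralizer ({t} : Set G) : Set G)) :
    Nat.card {s : G // orderOf s = 2 ∧ s ∈ H} * Nat.card (centralizer ({t} : Set G)) = Nat.card H := by
  have htH : t ∈ H := hCH (mem_cent.2 rfl)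
  rw [← H18.CharInd.card_isConj_mul_card_centralizer (⟨t, htH⟩ : H)]
  congr 1
  · apply Nat.card_congr
    exact
      { toFun := fun s => ⟨⟨s.1, s.2.2⟩, by
          obtain ⟨k, hk, hk2⟩ := conj_of_le h ht hCH hn s.2.2 s.2.1
          exact isConj_iff.2 ⟨⟨k, hk⟩, Subtype.ext hk2.symm⟩⟩
        invFun := fun s => ⟨(s.1 : G), by
          obtain ⟨k, hk⟩ := isConj_iff.1 s.2
          have h1 : ((s.1 : H) : G) = k * t * (k : G)⁻¹ := (congrArg Subtype.val hk).symm
          rw [h1]
          have : (k : G) * t * (k : G)⁻¹ = MulAut.conj (k : G) t := by simp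
          rw [this, MulEquiv.orderOf_eq, ht], s.1.2⟩
        left_inv := fun s => rfl
        right_inv := fun s => rfl }
  · apply Nat.card_congr
    exact
      { toFun := fun y => ⟨⟨y, hCH y.2⟩, by
          rw [mem_cent]; exact Subtype.ext (mem_cent.1 y.2)⟩
        invFun := fun y => ⟨((y : H) : G), by
          have := y.2
          rw [mem_cent] at this ⊢
          exact congrArg Subtype.val this⟩
        left_inv := fun y => rfl
        right_inv := fun y => rfl }

end H2.CI
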