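import Cfsg.Agent.Lib.H2.CI.Glob

set_option autoImplicit false

/-! No proper centralizer `SL₂(F) × O` with `O ≠ 1`: the contradiction. -/

namespace H2.CI

open Cfsg Subgroup H25.Isolated Matrix

universe u

variable {G : Type u} [Group G] [Finite G]

/-- local structure -/
def LocSL (y : G) : Prop :=
  ∃ (F : Type) (_ : Field F) (_ : Fintype F) (O : Type) (_ : CommGroup O) (_ : Finite O),
    CharP F 2 ∧ 4 ≤ Fintype.card F ∧ Odd (Nat.card O) ∧
      Nonempty (centralizer ({y} : Set G) ≃* Matrix.SpecialLinearGroup (Fin 2) F × O)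

theorem glob (h : CI G) {t x : G} (ht : orderOf t = 2) (htx : t * x = x * t) (hx1 : x ≠ 1)
    (hxn : ¬ centralizer ({x} : Set G) ≤ normalizer (centralizer ({t} : Set G) : Set G))
    (hxt : centralizer ({x} : Set G) ≠ ⊤)
    (hloc : ∀ y : G, y ≠ 1 → y * t = t * y →
      ¬ centralizer ({y} : Set G) ≤ normalizer (centralizer ({t} : Set G) : Set G) → LocSL y) : False := by
  classical
  obtain ⟨F, _, _, O, _, _, _, hF, hO, ⟨e⟩⟩ := hloc x hx1 htx.symm hxn
  set q := Fintype.card F with hq
  set o := Nat.card O with ho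
  set H := centralizer ({x} : Set G) with hH
  have hopos : 0 < o := Nat.card_pos
  have hCH : centralizer ({t} : Set G) ≤ H := by
    intro y hy
    rw [mem_cent] at hy
    rw [hH, mem_cent]
    exact h t ht y x hy htx.symm
  have htH : t ∈ H := mem_cent.2 htx
  have hti : t⁻¹ = t := inv_eq_self_of_sq (self_mul_self ht)
  -- (a)
  have ha : ∀ y : G, Cen x y → y ≠ 1 → centralizer ({y} : Set G) = H := by
    intro y hy hy1
    have hle : H ≤ centralizer ({y} : Set G) := by
      intro g hg
      rw [mem_cent]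
      exact (hy.2 g (mem_cent.1 hg)).symm
    obtain ⟨F', _, _, O', _, _, _, hF', hO', ⟨e'⟩⟩ := hloc y hy1 (hy.2 t htx)
      (fun h1 => hxn (hle.trans h1))
    have e1 := loc_card_A h hO ht htx e
    have hty : t * y = y * t := (hy.2 t htx).symm
    have e2 := loc_card_A h hO' ht hty e'
    have e3 := loc_card_odd h hO ht htx e
    have e4 := loc_card_odd h hO' ht hty e'
    rw [e3] at e4
    rw [e1, e4] at e2
    have e5 : Fintype.card F = Fintype.card F' := by
      apply Nat.eq_of_mul_eq_mul_right _ e2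
      rw [← e4]; exact hopos
    have e6 : Nat.card (centralizer ({y} : Set G)) = Nat.card H := by
      rw [loc_card y e', hH, loc_card x e, e5, e4]
    exact (Subgroup.eq_of_le_of_card_ge hle e6.le).symm
  -- (d)
  have hconj : ∀ s ∈ H, orderOf s = 2 → ∃ k ∈ H, s = k * t * k⁻¹ := fun s hs hs2 =>
    conj_of_le h ht hCH hxn hs hs2
  have hstr := strEmb_of ht hCH hconj hxt
  -- (c)
  have hnorm : ∀ g : G, H.map (MulAut.conj g).toMonoidHom = H → g ∈ H := by
    intro g hg
    have h1 : g * t * g⁻¹ ∈ H := by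
      rw [← hg, H25.StrEmb.mem_map_conj]
      have e1 : g⁻¹ * (g * t * g⁻¹) * g = t := by group
      rw [e1]; exact htH
    have h2 : orderOf (g * t * g⁻¹) = 2 := by
      have : g * t * g⁻¹ = MulAut.conj g t := by simp
      rw [this, MulEquiv.orderOf_eq, ht]
    obtain ⟨k, hk, hk2⟩ := hconj _ h1 h2
    have h3 : k⁻¹ * g ∈ H := by
      apply hCH
      rw [mem_cent]
      calc k⁻¹ * g * t = k⁻¹ * (g * t * g⁻¹) * g := by group
        _ = t * (k⁻¹ * g) := by rw [hk2]; group
    have h4 : k * (k⁻¹ * g) ∈ H := mul_mem hk h3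
    have h5 : k * (k⁻¹ * g) = g := by group
    rwa [h5] at h4
  -- (b)
  have hb : ∀ w g : G, w ≠ 1 → Cen x w → Cen x (g⁻¹ * w * g) → g ∈ H := by
    intro w g hw hw1 hw2
    apply hnorm
    have h1 := ha w hw1 hw
    have h2 := ha _ hw2 (by
      intro h3
      apply hw
      have : w = g * (g⁻¹ * w * g) * g⁻¹ := by group
      rw [this, h3]; group)
    have h3 := conj_cent (t := g⁻¹ * w * g) (g := g)
    have e1 : g * (g⁻¹ * w * g) * g⁻¹ = w := by group
    rw [e1, h1, h2] at h3
    exact h3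
  -- (f)
  have hf : Nat.card {s : G // orderOf s = 2 ∧ s ∈ H} = q ^ 2 - 1 := by
    have h1 := card_invol_mul h ht hCH hxn
    rw [loc_card_A h hO ht htx e, hH, loc_card x e] at h1
    have h2 : Fintype.card F * (Fintype.card F ^ 2 - 1) * Nat.card O =
        (Fintype.card F ^ 2 - 1) * (Fintype.card F * Nat.card O) := by ring
    rw [h2] at h1
    apply Nat.eq_of_mul_eq_mul_right _ h1
    apply Nat.mul_pos (by omega) hopos
  -- (e)
  obtain ⟨g, hg⟩ : ∃ g : G, g ∉ H := by
    by_contra hcon
    push Not at hcon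
    exact hxt (eq_top_iff.2 fun y _ => hcon y)
  have hq2 : q + 1 < q ^ 2 - 1 := by
    have h1 : 4 * q ≤ q ^ 2 := by rw [pow_two]; exact Nat.mul_le_mul_right _ hF
    omega
  have hswap : ∀ g : G, g ∉ H → Nat.card {i : G // orderOf i = 2 ∧ g⁻¹ * i ∈ H} = q ^ 2 - 1 := by
    intro g hg
    have h1 := H25.StrEmb.card_swap hstr (QuotientGroup.mk (1 : G) : G ⧸ H)
      (QuotientGroup.mk g : G ⧸ H) (by
      intro h2
      apply hg
      simpa using (QuotientGroup.eq.1 h2))
    rw [← hf, ← h1]
    apply Nat.card_congr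
    apply Equiv.subtypeEquivRight
    intro i
    rw [H25.StrEmb.smul_mk_eq_iff, mul_one]
  obtain ⟨u, hu2, huH⟩ : ∃ u : G, orderOf u = 2 ∧ u ∉ H := by
    have h1 := hswap g hg
    have h2 : 0 < Nat.card {i : G // orderOf i = 2 ∧ g⁻¹ * i ∈ H} := by omega
    obtain ⟨⟨i, hi, hi2⟩⟩ := (Nat.card_pos_iff.1 h2).1
    refine ⟨i, hi, fun h3 => hg ?_⟩
    have h4 := mul_mem h3 (inv_mem hi2)
    have e1 : i * (g⁻¹ * i)⁻¹ = g := by group
    rwa [e1] at h4
  have hui : u⁻¹ = u := inv_eq_self_of_sq (self_mul_self hu2)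
  have huu : u * u = 1 := self_mul_self hu2
  set D := H ⊓ H.map (MulAut.conj u).toMonoidHom with hD
  have hDodd : Odd (Nat.card D) := hstr.2.2 u huH
  have hDmem : ∀ y, y ∈ D ↔ y ∈ H ∧ u * y * u ∈ H := by
    intro y
    rw [hD, mem_inf, H25.StrEmb.mem_map_conj, hui]
  have hDu : ∀ y ∈ D, u * y * u ∈ D := by
    intro y hy
    rw [hDmem] at hy ⊢
    refine ⟨hy.2, ?_⟩
    have : u * (u * y * u) * u = (u * u) * y * (u * u) := by group
    rw [this, huu, one_mul, mul_one]
    exact hy.1
  -- the projection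
  let ρ : H →* SpecialLinearGroup (Fin 2) F := (MonoidHom.fst _ _).comp e.toMonoidHom
  have hρ : ∀ y : H, ρ y = 1 → Cen x y := by
    intro y hy
    refine ⟨mem_cent.1 y.2, fun g hg => ?_⟩
    have h6 : y * ⟨g, mem_cent.2 hg⟩ = ⟨g, mem_cent.2 hg⟩ * y := by
      apply e.injective
      rw [map_mul, map_mul]
      apply Prod.ext
      · rw [Prod.fst_mul, Prod.fst_mul, show (e y).1 = 1 from hy, one_mul, mul_one]
      · rw [Prod.snd_mul, Prod.snd_mul, mul_comm]
    exact congrArg Subtype.val h6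
  set D' := (D.subgroupOf H).map ρ with hD'
  have hD'c : Nat.card D' ∣ Nat.card D := by
    rw [hD']
    have h1 := Subgroup.card_map_dvd (D.subgroupOf H) ρ
    rwa [Nat.card_congr (Subgroup.subgroupOfEquivOfLe (inf_le_left : D ≤ H)).toEquiv] at h1
  have hD'odd : Odd (Nat.card D') := Odd.of_dvd_nat hDodd hD'c
  have hD'le : Nat.card D' ∣ q ^ 2 - 1 := by
    have h1 := Subgroup.card_subgroup_dvd_card D'
    rw [H25.SL2Card.card_SL2] at h1
    obtain ⟨n, -, hn⟩ := FiniteField.card F 2
    have h2 : Nat.Coprime (Nat.card D') (Fintype.card F) := by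
      rw [hn]
      exact Nat.Coprime.pow_right _ hD'odd.coprime_two_right
    exact h2.dvd_of_dvd_mul_left h1
  -- the involutions in `uH`
  let J := {i : G // orderOf i = 2 ∧ u * i ∈ H}
  have hJc : Nat.card J = q ^ 2 - 1 := by
    have h1 := hswap u huH
    rw [hui] at h1
    exact h1
  have hJinv : ∀ i : J, u * (u * (i : G)) * u = (u * (i : G))⁻¹ := by
    intro i
    have h1 : (i : G)⁻¹ = i := inv_eq_self_of_sq (self_mul_self i.2.1)
    rw [_root_.mul_inv_rev, hui, h1]
    calc u * (u * (i : G)) * u = (u * u) * (i * u) := by group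
      _ = i * u := by rw [huu, one_mul]
  have hJH : ∀ i : J, u * (i : G) ∈ H := by
    intro i
    exact i.2.2
  have hJD : ∀ i : J, u * (i : G) ∈ D := by
    intro i
    rw [hDmem]
    refine ⟨hJH i, ?_⟩
    rw [hJinv i]
    exact inv_mem (hJH i)
  let φ : J → D' := fun i => ⟨ρ ⟨u * i, hJH i⟩, mem_map_of_mem ρ (by
    rw [mem_subgroupOf]; exact hJD i)⟩
  have hφ : Function.Injective φ := by
    intro i j hij
    have h1 : ρ ⟨u * i, hJH i⟩ = ρ ⟨u * j, hJH j⟩ := congrArg Subtype.val hij
    have h2 : ρ ((⟨u * j, hJH j⟩ : H)⁻¹ * ⟨u * i, hJH i⟩) = 1 := by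
      rw [map_mul, map_inv, h1, inv_mul_cancel]
    have h3 := hρ _ h2
    set y : G := ((((⟨u * j, hJH j⟩ : H)⁻¹ * ⟨u * i, hJH i⟩ : H)) : G) with hy
    have hyv : y = (u * (j : G))⁻¹ * (u * i) := rfl
    by_contra hne
    have hy1 : y ≠ 1 := by
      intro h4
      apply hne
      apply Subtype.ext
      rw [hyv] at h4
      have := inv_mul_eq_one.1 h4
      exact (mul_left_cancel this).symm
    apply huH
    apply hb y u hy1 h3
    -- u y u = y⁻¹
    have h5 : u⁻¹ * y * u = y⁻¹ := by
      have e1 : u * (i : G) = (u * j) * y := by rw [hyv]; group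
      have e2 := hJinv i
      have e3 := hJinv j
      rw [e1] at e2
      have e4 : u * (u * (j : G) * y) * u = (u * (u * j) * u) * (u⁻¹ * y * u) := by group
      rw [e4, e3] at e2
      have e5 : y * (u * (j : G)) = (u * j) * y := h3.2 _ (mem_cent.1 (hJH j))
      have e6 : u⁻¹ * y * u = (u * j) * ((u * (j : G)) * y)⁻¹ := by rw [← e2]; group
      rw [e6, ← e5]; group
    rw [h5]
    refine ⟨?_, fun k hk => ?_⟩
    · have := h3.1
      exact (Commute.inv_left (a := y) (b := x) this)
    · exact (Commute.inv_left (a := y) (b := k) (h3.2 k hk))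
  have hcardD' : Nat.card D' = q ^ 2 - 1 := by
    apply le_antisymm
    · exact Nat.le_of_dvd (by omega) hD'le
    · rw [← hJc]; exact Nat.card_le_card_of_injective φ hφ
  -- a central element of `D'`
  have hz : ∃ z ∈ D', z ≠ 1 ∧ ∀ g ∈ D', g * z = z * g := by
    by_cases hcase : ∃ y ∈ D, y ≠ 1 ∧ Cen x y
    · obtain ⟨y, hyD, hy1, hyc⟩ := hcase
      have hy'D := hDu y hyD
      have hy'H : u * y * u ∈ H := ((hDmem _).1 hy'D).1
      refine ⟨ρ ⟨u * y * u, hy'H⟩, mem_map_of_mem ρ (by rw [mem_subgroupOf]; exact hy'D), ?_, ?_⟩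
      · intro h1
        apply huH
        have h2 := hρ _ h1
        apply hb y u hy1 hyc
        rw [hui]; exact h2
      · rintro _ ⟨d, hd, rfl⟩
        rw [← map_mul, ← map_mul]
        congr 1
        apply Subtype.ext
        show (d : G) * (u * y * u) = (u * y * u) * d
        have h1 : u * (d : G) * u ∈ H := ((hDmem _).1 hd).2
        have h2 := hyc.2 _ (mem_cent.1 h1)
        calc (d : G) * (u * y * u) = (u * u) * d * (u * y * u) := by rw [huu, one_mul]
          _ = u * ((u * d * u) * y) * u := by group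
          _ = u * (y * (u * d * u)) * u := by rw [h2]
          _ = (u * y * u) * d * (u * u) := by group
          _ = _ := by rw [huu, mul_one]
    · push Not at hcase
      -- ρ is injective on D
      have hinj : ∀ d : G, ∀ hd : d ∈ H, d ∈ D → ρ ⟨d, hd⟩ = 1 → d = 1 := by
        intro d hd hdD h1
        by_contra h2
        exact hcase d hdD h2 (hρ _ h1)
      have hcardD : Nat.card D = q ^ 2 - 1 := by
        rw [← hcardD']
        apply Nat.card_congr
        refine Equiv.ofBijective (fun d => ⟨ρ ⟨d, ((hDmem _).1 d.2).1⟩, mem_map_of_mem ρ (by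
          rw [mem_subgroupOf]; exact d.2)⟩) ⟨?_, ?_⟩
        · intro a b hab
          have h1 : ρ ⟨a, ((hDmem _).1 a.2).1⟩ = ρ ⟨b, ((hDmem _).1 b.2).1⟩ := congrArg Subtype.val hab
          have h2 : ρ ((⟨a, ((hDmem _).1 a.2).1⟩ : H)⁻¹ * ⟨b, ((hDmem _).1 b.2).1⟩) = 1 := by
            rw [map_mul, map_inv, h1, inv_mul_cancel]
          have h3 := hinj _ _ (mul_mem (inv_mem a.2) b.2) h2
          exact Subtype.ext (inv_mul_eq_one.1 h3)
        · rintro ⟨_, d, hd, rfl⟩
          exact ⟨⟨d, hd⟩, rfl⟩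
      have hsurj : ∀ d ∈ D, u * d * u = d⁻¹ := by
        let ψ : J → D := fun i => ⟨u * i, hJD i⟩
        have h1 : Function.Injective ψ := by
          intro i j hij
          exact Subtype.ext (mul_left_cancel (congrArg Subtype.val hij))
        have h2 : Function.Bijective ψ := by
          rw [Nat.bijective_iff_injective_and_card]
          exact ⟨h1, by rw [hJc, hcardD]⟩
        intro d hd
        obtain ⟨i, hi⟩ := h2.2 ⟨d, hd⟩
        have h3 : u * (i : G) = d := congrArg Subtype.val hi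
        rw [← h3]; exact hJinv i
      have hcomm : ∀ a ∈ D, ∀ b ∈ D, a * b = b * a := by
        intro a ha' b hb'
        have h1 := hsurj _ (mul_mem ha' hb')
        have h2 : u * (a * b) * u = (u * a * u) * (u * b * u) := by
          calc u * (a * b) * u = u * a * (1 * b) * u := by group
            _ = u * a * ((u * u) * b) * u := by rw [huu]
            _ = _ := by group
        rw [h2, hsurj a ha', hsurj b hb', ← _root_.mul_inv_rev] at h1
        exact (inv_injective h1).symm
      have hnt : Nontrivial D' := by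
        rw [← Finite.one_lt_card_iff_nontrivial, hcardD']
        omega
      obtain ⟨⟨z, hz⟩, hz1⟩ := exists_ne (1 : D')
      refine ⟨z, hz, fun h1 => hz1 (Subtype.ext h1), ?_⟩
      obtain ⟨b, hbD, rfl⟩ := hz
      rintro _ ⟨a, haD, rfl⟩
      rw [← map_mul, ← map_mul]
      congr 1
      exact Subtype.ext (hcomm a haD b hbD)
  obtain ⟨z, hzD, hz1, hzc⟩ := hz
  have := card_le_of_central D' hD'odd hzD hz1 hzc
  rw [hcardD'] at this
  omega

end H2.CI
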