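import Cfsg.Agent.Lib.H6.SL2Tor
import Cfsg.Agent.Lib.H25.SL2Card
import Cfsg.Agent.Lib.H17.L2Order
import Cfsg.Agent.Lib.H43.GL2Count

set_option autoImplicit false

/-! Facts on `SL₂(F)`, `F` finite of characteristic two. -/

namespace H2.CI

open Matrix

variable {F : Type*} [Field F] [Fintype F] [CharP F 2]

theorem sq_eq_one {x : F} (h : x ^ 2 = 1) : x = 1 := by
  have h1 : (x - 1) ^ 2 = 0 := by
    have h2 : (2 : F) = 0 := by
      have := CharP.cast_eq_zero F 2
      exact_mod_cast this
    linear_combination h - (x - 1) * h2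
  exact sub_eq_zero.1 (pow_eq_zero_iff two_ne_zero |>.1 h1)

theorem not_isScal {g : SpecialLinearGroup (Fin 2) F} (hg : g ≠ 1) :
    ¬ H43.GL2Basic.IsScal (g : Matrix (Fin 2) (Fin 2) F) := by
  rintro ⟨h1, h2, h3⟩
  apply hg
  have hd := g.det_coe
  rw [det_fin_two, h1, h2, ← h3] at hd
  have h4 : g 0 0 = 1 := sq_eq_one (by linear_combination hd)
  apply Matrix.SpecialLinearGroup.ext
  intro i j
  fin_cases i <;> fin_cases j
  · simpa using h4
  · simpa using h1
  · simpa using h2
  · simpa [h3] using h4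

theorem trace_of_invol {g : SpecialLinearGroup (Fin 2) F} (hg : g * g = 1) (hg1 : g ≠ 1) :
    (g : Matrix (Fin 2) (Fin 2) F).trace = 0 := by
  have h1 : (g : Matrix (Fin 2) (Fin 2) F) * (g : Matrix (Fin 2) (Fin 2) F) = 1 := by
    have := congrArg (fun x : SpecialLinearGroup (Fin 2) F => (x : Matrix (Fin 2) (Fin 2) F)) hg
    simpa using this
  have hd := g.det_coe
  rw [det_fin_two] at hd
  have e00 := congrFun (congrFun h1 0) 0
  have e01 := congrFun (congrFun h1 0) 1
  have e10 := congrFun (congrFun h1 1) 0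
  have e11 := congrFun (congrFun h1 1) 1
  simp only [Matrix.mul_apply, Fin.sum_univ_two, Matrix.one_apply] at e00 e01 e10 e11
  norm_num at e00 e01 e10 e11
  rw [trace_fin_two]
  by_contra ht
  have h2 : (2 : F) = 0 := by
    have := CharP.cast_eq_zero F 2
    exact_mod_cast this
  apply not_isScal hg1
  refine ⟨?_, ?_, ?_⟩
  · have : (g 0 0 + g 1 1) * g 0 1 = 0 := by linear_combination e01
    exact (mul_eq_zero.1 this).resolve_left ht
  · have : (g 0 0 + g 1 1) * g 1 0 = 0 := by linear_combination e10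
    exact (mul_eq_zero.1 this).resolve_left ht
  · have h3 : (g 0 0 + g 1 1) * (g 0 0 - g 1 1) = 0 := by linear_combination e00 - e11
    exact sub_eq_zero.1 ((mul_eq_zero.1 h3).resolve_left ht)

theorem card_cent_invol {g : SpecialLinearGroup (Fin 2) F} (hg : g * g = 1) (hg1 : g ≠ 1) :
    Nat.card (Subgroup.centralizer ({g} : Set (SpecialLinearGroup (Fin 2) F))) = Fintype.card F := by
  have h2 : (2 : F) = 0 := by
    have := CharP.cast_eq_zero F 2
    exact_mod_cast this
  rw [H43.GL2Count.sl_card_centralizer_unip g 1 (not_isScal hg1)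
    (by rw [trace_of_invol hg hg1]; linear_combination -h2) (one_mul 1)]
  have : Nat.card {x : F // x ^ 2 = 1} = 1 := by
    rw [Nat.card_eq_one_iff_unique]
    refine ⟨⟨fun a b => ?_⟩, ⟨⟨1, one_pow 2⟩⟩⟩
    apply Subtype.ext
    rw [sq_eq_one a.2, sq_eq_one b.2]
  rw [this, one_mul]

theorem card_le_of_central (D : Subgroup (SpecialLinearGroup (Fin 2) F)) (hodd : Odd (Nat.card D))
    {z : SpecialLinearGroup (Fin 2) F} (hzD : z ∈ D) (hz1 : z ≠ 1) (hz : ∀ g ∈ D, g * z = z * g) :
    Nat.card D ≤ Fintype.card F + 1 := by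
  have hc : IsCyclic D := by
    apply H6.SL2Tor.isCyclic_of_central D.subtype (Subgroup.subtype_injective _) _ ⟨z, hzD⟩
    · intro g
      exact Subtype.ext (hz g g.2)
    · rw [H25.SL2Card.center_SL2_char_two, Subgroup.mem_bot]
      exact hz1
    · intro h0
      rw [CharP.cast_eq_zero_iff F 2] at h0
      exact (Nat.not_even_iff_odd.2 hodd) (even_iff_two_dvd.2 h0)
  obtain ⟨g, hg⟩ := hc.exists_generator
  have h1 : orderOf (g : SpecialLinearGroup (Fin 2) F) = Nat.card D := by
    rw [Subgroup.orderOf_coe]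
    exact orderOf_eq_card_of_forall_mem_zpowers hg
  have hq : 1 < Fintype.card F := Fintype.one_lt_card
  have := Fact.mk Nat.prime_two
  rcases H17.L2Order.order_dvd 2 (g : SpecialLinearGroup (Fin 2) F) (by
    rw [h1]; exact hodd.coprime_two_right) with h | h
  · rw [h1] at h
    have := Nat.le_of_dvd (by omega) h
    omega
  · rw [h1] at h
    exact Nat.le_of_dvd (by omega) h

omit [CharP F 2] in
theorem two_dvd_card [CharP F 2] : 2 ∣ Fintype.card F := by
  have := Nat.cast_card_eq_zero F
  rwa [CharP.cast_eq_zero_iff F 2] at this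

end H2.CI
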