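import Cfsg.Agent.Lib.H2.CI.Basic
import Cfsg.Agent.Lib.H2.CI.SL2

set_option autoImplicit false

/-! Centralizers isomorphic to `SL₂(F) × O`. -/

namespace H2.CI

open Cfsg Subgroup H25.Isolated Matrix

universe u

variable {G : Type u} [Group G] [Finite G]

/-- `y` is central in `C(x)` -/
def Cen (x y : G) : Prop := y * x = x * y ∧ ∀ h : G, h * x = x * h → y * h = h * y

section

variable {F : Type} [Field F] [Fintype F] [CharP F 2] {O : Type} [CommGroup O] [Finite O]

theorem eq_one_of_odd {X : Type*} [Group X] [Finite X] (hX : Odd (Nat.card X)) {x : X}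
    (h : x * x = 1) : x = 1 := by
  have h1 : orderOf x ∣ 2 := orderOf_dvd_of_pow_eq_one (by rw [pow_two]; exact h)
  have h2 := orderOf_dvd_natCard x
  rcases (Nat.dvd_prime Nat.prime_two).1 h1 with h3 | h3
  · exact orderOf_eq_one_iff.1 h3
  · exfalso
    rw [h3] at h2
    exact (Nat.not_even_iff_odd.2 hX) (even_iff_two_dvd.2 h2)

theorem loc_card (x : G) (e : centralizer ({x} : Set G) ≃* SpecialLinearGroup (Fin 2) F × O) :
    Nat.card (centralizer ({x} : Set G)) =
      Fintype.card F * (Fintype.card F ^ 2 - 1) * Nat.card O := by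
  rw [Nat.card_congr e.toEquiv, Nat.card_prod, H25.SL2Card.card_SL2]

/-- the image of `t` -/
theorem loc_t (hO : Odd (Nat.card O)) {t x : G} (ht : orderOf t = 2)
    (e : centralizer ({x} : Set G) ≃* SpecialLinearGroup (Fin 2) F × O)
    (htx : t ∈ centralizer ({x} : Set G)) :
    ∃ t₁ : SpecialLinearGroup (Fin 2) F, e ⟨t, htx⟩ = (t₁, 1) ∧ t₁ * t₁ = 1 ∧ t₁ ≠ 1 := by
  have h1 : e ⟨t, htx⟩ * e ⟨t, htx⟩ = 1 := by
    rw [← map_mul]
    have : (⟨t, htx⟩ : centralizer ({x} : Set G)) * ⟨t, htx⟩ = 1 := Subtype.ext (self_mul_self ht)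
    rw [this, map_one]
  have h2 : (e ⟨t, htx⟩).2 = 1 := eq_one_of_odd hO (congrArg Prod.snd h1)
  refine ⟨(e ⟨t, htx⟩).1, Prod.ext rfl h2, congrArg Prod.fst h1, ?_⟩
  intro h3
  have h4 : e ⟨t, htx⟩ = 1 := Prod.ext h3 h2
  have h5 : (⟨t, htx⟩ : centralizer ({x} : Set G)) = 1 := by
    apply e.injective; rw [h4, map_one]
  have h6 : t = 1 := congrArg Subtype.val h5
  rw [h6, orderOf_one] at ht
  omega

theorem loc_card_A (h : CI G) (hO : Odd (Nat.card O)) {t x : G} (ht : orderOf t = 2)
    (htx : t * x = x * t)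
    (e : centralizer ({x} : Set G) ≃* SpecialLinearGroup (Fin 2) F × O) :
    Nat.card (centralizer ({t} : Set G)) = Fintype.card F * Nat.card O := by
  classical
  obtain ⟨t₁, h1, h2, h3⟩ := loc_t hO ht e (mem_cent.2 htx)
  have hle : ∀ y ∈ centralizer ({t} : Set G), y ∈ centralizer ({x} : Set G) := by
    intro y hy
    rw [mem_cent] at hy ⊢
    exact h t ht y x hy htx.symm
  rw [← card_cent_invol h2 h3, ← Nat.card_prod]
  apply Nat.card_congr
  exact
    { toFun := fun y => (⟨(e ⟨y, hle y y.2⟩).1, by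
          rw [mem_cent]
          have h4 : (⟨y, hle y y.2⟩ : centralizer ({x} : Set G)) * ⟨t, mem_cent.2 htx⟩ =
            ⟨t, mem_cent.2 htx⟩ * ⟨y, hle y y.2⟩ := Subtype.ext (mem_cent.1 y.2)
          have h5 := congrArg e h4
          rw [map_mul, map_mul, h1] at h5
          exact congrArg Prod.fst h5⟩, (e ⟨y, hle y y.2⟩).2)
      invFun := fun p => ⟨(e.symm (p.1, p.2) : centralizer ({x} : Set G)), by
          rw [mem_cent]
          have h4 : ((p.1 : SpecialLinearGroup (Fin 2) F), p.2) * e ⟨t, mem_cent.2 htx⟩ =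
              e ⟨t, mem_cent.2 htx⟩ * ((p.1 : SpecialLinearGroup (Fin 2) F), p.2) := by
            rw [h1]
            apply Prod.ext
            · exact mem_cent.1 p.1.2
            · simp
          have h5 := congrArg e.symm h4
          rw [map_mul, map_mul, MulEquiv.symm_apply_apply] at h5
          exact congrArg Subtype.val h5⟩
      left_inv := fun y => by
        apply Subtype.ext
        simp
      right_inv := fun p => by
        apply Prod.ext
        · apply Subtype.ext
          simp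
        · simp }

theorem orderOf_two_pow_odd {X : Type*} [Group X] {x : X} {n : ℕ} (h1 : x ^ 2 ^ n = 1)
    (h2 : Odd (orderOf x)) : x = 1 := by
  have h3 : orderOf x ∣ 2 ^ n := orderOf_dvd_of_pow_eq_one h1
  have h4 : Nat.Coprime (orderOf x) (2 ^ n) := Nat.Coprime.pow_right n h2.coprime_two_right
  have h5 : orderOf x ∣ 1 := by
    have := Nat.dvd_gcd dvd_rfl h3
    rwa [h4] at this
  exact orderOf_eq_one_iff.1 (Nat.dvd_one.1 h5)

theorem loc_cen_iff (h : CI G) (hO : Odd (Nat.card O)) {t x : G} (ht : orderOf t = 2)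
    (htx : t * x = x * t)
    (e : centralizer ({x} : Set G) ≃* SpecialLinearGroup (Fin 2) F × O) (y : G) :
    Cen x y ↔ y * t = t * y ∧ Odd (orderOf y) := by
  obtain ⟨t₁, h1, h2, h3⟩ := loc_t hO ht e (mem_cent.2 htx)
  constructor
  · rintro ⟨hy1, hy2⟩
    refine ⟨hy2 t htx, ?_⟩
    have h4 : e ⟨y, mem_cent.2 hy1⟩ ∈ center (SpecialLinearGroup (Fin 2) F × O) := by
      rw [mem_center_iff]
      intro g
      obtain ⟨g', rfl⟩ := e.surjective g
      rw [← map_mul, ← map_mul]
      congr 1
      exact Subtype.ext (hy2 g' (mem_cent.1 g'.2)).symm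
    have h5 : (e ⟨y, mem_cent.2 hy1⟩).1 ∈ center (SpecialLinearGroup (Fin 2) F) := by
      rw [mem_center_iff] at h4 ⊢
      intro g
      exact congrArg Prod.fst (h4 (g, 1))
    rw [H25.SL2Card.center_SL2_char_two, mem_bot] at h5
    have h6 : y ^ Nat.card O = 1 := by
      have h7 : (⟨y, mem_cent.2 hy1⟩ : centralizer ({x} : Set G)) ^ Nat.card O = 1 := by
        apply e.injective
        rw [map_pow, map_one]
        apply Prod.ext
        · rw [Prod.pow_fst, h5]; simp
        · rw [Prod.pow_snd]; exact pow_card_eq_one'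
      exact congrArg Subtype.val h7
    exact Odd.of_dvd_nat hO (orderOf_dvd_of_pow_eq_one h6)
  · rintro ⟨hy1, hy2⟩
    have hyx : y * x = x * y := h t ht y x hy1 htx.symm
    have h4 : (e ⟨y, mem_cent.2 hyx⟩).1 ∈ centralizer ({t₁} : Set (SpecialLinearGroup (Fin 2) F)) := by
      rw [mem_cent]
      have h4 : (⟨y, mem_cent.2 hyx⟩ : centralizer ({x} : Set G)) * ⟨t, mem_cent.2 htx⟩ =
            ⟨t, mem_cent.2 htx⟩ * ⟨y, mem_cent.2 hyx⟩ := Subtype.ext hy1
      have h5 := congrArg e h4
      rw [map_mul, map_mul, h1] at h5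
      exact congrArg Prod.fst h5
    obtain ⟨n, -, hn⟩ := FiniteField.card F 2
    have h5 : (e ⟨y, mem_cent.2 hyx⟩).1 = 1 := by
      apply orderOf_two_pow_odd (n := (n : ℕ))
      · have h6 := pow_card_eq_one' (x := (⟨_, h4⟩ :
          centralizer ({t₁} : Set (SpecialLinearGroup (Fin 2) F))))
        rw [card_cent_invol h2 h3, hn] at h6
        exact congrArg Subtype.val h6
      · have h6 : (e ⟨y, mem_cent.2 hyx⟩).1 ^ orderOf y = 1 := by
          rw [← Prod.pow_fst, ← map_pow]
          have h7 : (⟨y, mem_cent.2 hyx⟩ : centralizer ({x} : Set G)) ^ orderOf y = 1 :=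
            Subtype.ext (pow_orderOf_eq_one y)
          rw [h7, map_one]; rfl
        exact Odd.of_dvd_nat hy2 (orderOf_dvd_of_pow_eq_one h6)
    refine ⟨hyx, fun g hg => ?_⟩
    have h6 : (⟨y, mem_cent.2 hyx⟩ : centralizer ({x} : Set G)) * ⟨g, mem_cent.2 hg⟩ =
        ⟨g, mem_cent.2 hg⟩ * ⟨y, mem_cent.2 hyx⟩ := by
      apply e.injective
      rw [map_mul, map_mul]
      apply Prod.ext
      · rw [Prod.fst_mul, Prod.fst_mul, h5, one_mul, mul_one]
      · rw [Prod.snd_mul, Prod.snd_mul, mul_comm]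
    exact congrArg Subtype.val h6

theorem loc_card_odd (h : CI G) (hO : Odd (Nat.card O)) {t x : G} (ht : orderOf t = 2)
    (htx : t * x = x * t)
    (e : centralizer ({x} : Set G) ≃* SpecialLinearGroup (Fin 2) F × O) :
    Nat.card {y : G // y * t = t * y ∧ Odd (orderOf y)} = Nat.card O := by
  rw [← Nat.card_congr (Equiv.subtypeEquivRight (loc_cen_iff h hO ht htx e))]
  apply Nat.card_congr
  exact
    { toFun := fun y => (e ⟨y, mem_cent.2 y.2.1⟩).2
      invFun := fun o => ⟨(e.symm (1, o) : centralizer ({x} : Set G)), by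
        refine ⟨mem_cent.1 (e.symm (1, o)).2, fun g hg => ?_⟩
        have h6 : e.symm (1, o) * ⟨g, mem_cent.2 hg⟩ = ⟨g, mem_cent.2 hg⟩ * e.symm (1, o) := by
          apply e.injective
          rw [map_mul, map_mul, MulEquiv.apply_symm_apply]
          apply Prod.ext
          · simp
          · rw [Prod.snd_mul, Prod.snd_mul, mul_comm]
        exact congrArg Subtype.val h6⟩
      left_inv := fun y => by
        have hy : Cen x (y : G) := y.2
        have h4 : e ⟨y, mem_cent.2 hy.1⟩ ∈ center (SpecialLinearGroup (Fin 2) F × O) := by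
          rw [mem_center_iff]
          intro g
          obtain ⟨g', rfl⟩ := e.surjective g
          rw [← map_mul, ← map_mul]
          congr 1
          exact Subtype.ext (hy.2 g' (mem_cent.1 g'.2)).symm
        have h5 : (e ⟨y, mem_cent.2 hy.1⟩).1 ∈ center (SpecialLinearGroup (Fin 2) F) := by
          rw [mem_center_iff] at h4 ⊢
          intro g
          exact congrArg Prod.fst (h4 (g, 1))
        rw [H25.SL2Card.center_SL2_char_two, mem_bot] at h5
        apply Subtype.ext
        simp only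
        have h6 : ((1 : SpecialLinearGroup (Fin 2) F), (e ⟨y, mem_cent.2 y.2.1⟩).2) =
            e ⟨y, mem_cent.2 hy.1⟩ := Prod.ext h5.symm rfl
        rw [h6, MulEquiv.symm_apply_apply]
      right_inv := fun o => by simp }

end

end H2.CI
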