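import Cfsg.Agent.S2202
import Cfsg.Agent.S0182
import Cfsg.Agent.Lib.H5.IndexTwo

set_option autoImplicit false

/-! Simple groups with abelian centralizers of involutions; commutative-transitive simple groups. -/

namespace H2.CI

open Cfsg Subgroup Matrix

variable {G : Type*} [Group G] [Finite G]

theorem of_simple [IsSimpleGroup G] (hna : ¬ IsMulCommutative G) (h : CI G)
    (heven : Even (Nat.card G)) :
    ∃ (F : Type) (_ : Field F) (_ : Fintype F), CharP F 2 ∧ 4 ≤ Fintype.card F ∧
      Nonempty (G ≃* SpecialLinearGroup (Fin 2) F) := by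
  have hcyc : ∀ T : Sylow 2 G, ¬ IsCyclic (T : Subgroup G) := by
    intro T hT
    obtain ⟨H, hH⟩ := H5.IndexTwo.exists_index_two_of_cyclic_sylow heven T hT
    have hn : H.Normal := Subgroup.normal_of_index_eq_two hH
    rcases hn.eq_bot_or_eq_top with h1 | h1
    · rw [h1, index_bot] at hH
      apply hna
      have := Fact.mk Nat.prime_two
      have h2 : IsCyclic G := isCyclic_of_prime_card hH
      exact ⟨⟨fun a b => by
        have := IsCyclic.commGroup (α := G)
        obtain ⟨g, hg⟩ := h2.exists_generator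
        obtain ⟨m, rfl⟩ := hg a
        obtain ⟨n, rfl⟩ := hg b
        exact (zpow_mul_comm g m n)⟩⟩
    · rw [h1, index_top] at hH; omega
  have hres := Cfsg.Agent.S2202.result heven (fun t ht =>
    ⟨⟨fun a b => Subtype.ext (comm_of_mem h ht a.2 b.2)⟩⟩)
  rcases hres with h1 | h1 | ⟨F, _, _, A, _, _, hch, hA, ⟨e⟩⟩
  · exact absurd (h1 default) (hcyc default)
  · exfalso
    set T : Sylow 2 G := default
    have hn := h1 T
    rcases hn.eq_bot_or_eq_top with h2 | h2
    · apply hcyc T
      rw [h2]; infer_instance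
    · apply hna
      exact ⟨⟨fun a b => comm_of_isPGroup h (h2 ▸ T.isPGroup' : IsPGroup 2 (⊤ : Subgroup G)) (mem_top a)
        (mem_top b)⟩⟩
  · -- A is trivial
    have hnt : Nontrivial (SpecialLinearGroup (Fin 2) F) := by
      rw [← Finite.one_lt_card_iff_nontrivial, H25.SL2Card.card_SL2]
      have hq : 1 < Fintype.card F := Fintype.one_lt_card
      have h2 : 2 * 2 ≤ Fintype.card F ^ 2 := by rw [pow_two]; exact Nat.mul_le_mul hq hq
      have h3 : 3 ≤ Fintype.card F ^ 2 - 1 := by omega
      calc 1 < 2 * 3 := by norm_num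
        _ ≤ _ := Nat.mul_le_mul hq h3
    let s : G →* A := (MonoidHom.snd _ _).comp e.toMonoidHom
    have hker : s.ker = ⊤ := by
      rcases (inferInstance : s.ker.Normal).eq_bot_or_eq_top with h2 | h2
      · exfalso
        obtain ⟨y, hy⟩ := exists_ne (1 : SpecialLinearGroup (Fin 2) F)
        have h3 : e.symm (y, 1) ∈ s.ker := by
          rw [MonoidHom.mem_ker]
          show (e (e.symm (y, 1))).2 = 1
          rw [MulEquiv.apply_symm_apply]
        rw [h2, mem_bot] at h3
        apply hy
        have h4 : (y, (1 : A)) = e 1 := by rw [← h3, MulEquiv.apply_symm_apply]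
        rw [map_one] at h4
        exact congrArg Prod.fst h4
      · exact h2
    have hA1 : ∀ a : A, a = 1 := by
      intro a
      have h3 : e.symm (1, a) ∈ s.ker := by rw [hker]; trivial
      have h4 : (e (e.symm (1, a))).2 = 1 := h3
      rw [MulEquiv.apply_symm_apply] at h4
      exact h4
    let f : G →* SpecialLinearGroup (Fin 2) F := (MonoidHom.fst _ _).comp e.toMonoidHom
    have hf : Function.Bijective f := by
      constructor
      · rw [injective_iff_map_eq_one]
        intro x hx
        apply e.injective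
        rw [map_one]
        exact Prod.ext hx (hA1 _)
      · intro y
        exact ⟨e.symm (y, 1), by
          show (e (e.symm (y, 1))).1 = y
          rw [MulEquiv.apply_symm_apply]⟩
    refine ⟨F, inferInstance, inferInstance, hch, ?_, ⟨MulEquiv.ofBijective f hf⟩⟩
    -- the field is not `F₂`
    have h2 := two_dvd_card (F := F)
    by_contra h4
    have h5 : Fintype.card F = 2 := by
      have : 1 < Fintype.card F := Fintype.one_lt_card
      omega
    have h6 : Nat.card G = 2 * 3 := by
      rw [Nat.card_congr (MulEquiv.ofBijective f hf).toEquiv, H25.SL2Card.card_SL2, h5]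
      norm_num
    have := Fact.mk Nat.prime_two
    set T : Sylow 2 G := default
    apply hcyc T
    apply isCyclic_of_prime_card (p := 2)
    rw [T.card_eq_multiplicity, h6]
    have : (2 * 3).factorization 2 = 1 := by
      rw [Nat.factorization_mul (by norm_num) (by norm_num)]
      simp [Nat.Prime.factorization Nat.prime_two, Nat.Prime.factorization Nat.prime_three]
    rw [this, pow_one]

/-- commutativity is transitive -/
def CT (G : Type*) [Group G] : Prop :=
  ∀ a b c : G, a ≠ 1 → b ≠ 1 → c ≠ 1 → Commute a b → Commute b c → Commute a c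

omit [Finite G] in
theorem CT.ca (h : CT G) {x : G} (hx : x ≠ 1) {a b : G} (ha : a * x = x * a) (hb : b * x = x * b) :
    a * b = b * a := by
  by_cases ha1 : a = 1
  · rw [ha1]; simp
  · by_cases hb1 : b = 1
    · rw [hb1]; simp
    · exact h a x b ha1 hx hb1 ha hb.symm

omit [Finite G] in
theorem CT.ci (h : CT G) : CI G := by
  intro t ht x y hx hy
  apply h.ca _ hx hy
  intro h1
  rw [h1, orderOf_one] at ht
  omega

theorem ct_simple [IsSimpleGroup G] (hna : ¬ IsMulCommutative G) (h : CT G) :
    ∃ (F : Type) (_ : Field F) (_ : Fintype F), CharP F 2 ∧ 4 ≤ Fintype.card F ∧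
      Nonempty (G ≃* SpecialLinearGroup (Fin 2) F) := by
  apply of_simple hna h.ci
  rw [← Nat.not_odd_iff_even]
  intro hodd
  have h1 := Cfsg.Agent.S0182.result hodd (fun x hx a ha b hb => h.ca hx (mem_cent.1 ha) (mem_cent.1 hb))
  apply hna
  exact ⟨⟨IsSimpleGroup.comm_iff_isSolvable.2 h1⟩⟩

/-- `SL₂(F)` is commutative-transitive in characteristic two -/
theorem ct_sl2 {F : Type*} [Field F] [Fintype F] [CharP F 2] : CT (SpecialLinearGroup (Fin 2) F) := by
  intro a b c ha hb hc hab hbc
  have hs := not_isScal hb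
  have h1 : (b : Matrix (Fin 2) (Fin 2) F) * (a : Matrix (Fin 2) (Fin 2) F) =
      (a : Matrix (Fin 2) (Fin 2) F) * (b : Matrix (Fin 2) (Fin 2) F) :=
    congrArg (fun g : SpecialLinearGroup (Fin 2) F => (g : Matrix (Fin 2) (Fin 2) F)) hab.eq.symm
  have h2 : (b : Matrix (Fin 2) (Fin 2) F) * (c : Matrix (Fin 2) (Fin 2) F) =
      (c : Matrix (Fin 2) (Fin 2) F) * (b : Matrix (Fin 2) (Fin 2) F) :=
    congrArg (fun g : SpecialLinearGroup (Fin 2) F => (g : Matrix (Fin 2) (Fin 2) F)) hbc.eq
  obtain ⟨x, y, hxy⟩ := (H43.GL2Basic.commute_iff hs _).1 h1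
  obtain ⟨z, w, hzw⟩ := (H43.GL2Basic.commute_iff hs _).1 h2
  apply Subtype.ext
  show (a : Matrix (Fin 2) (Fin 2) F) * (c : Matrix (Fin 2) (Fin 2) F) =
    (c : Matrix (Fin 2) (Fin 2) F) * (a : Matrix (Fin 2) (Fin 2) F)
  rw [hxy, hzw]
  generalize (b : Matrix (Fin 2) (Fin 2) F) = B
  simp only [add_mul, mul_add, smul_mul_assoc, mul_smul_comm, one_mul, mul_one]
  module

end H2.CI
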