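import Cfsg.Agent.Lib.H2.CI.SN4
import Cfsg.Agent.Lib.H2.CI.Simple
import Cfsg.Agent.Lib.H6.SL2Sylow
import Cfsg.Agent.Lib.H21.PSLTransport

set_option autoImplicit false

/-! Simple groups in which nonabelian subgroups are self-normalizing. -/

namespace H2.CI

open Subgroup Matrix
open scoped Pointwise

universe u

variable {G : Type u} [Group G] [Finite G]

theorem sn_ct [IsSimpleGroup G] (hna : ¬ IsMulCommutative G) (h : SN G) : CT G := by
  intro a b c ha hb hc hab hbc
  have hpos : 0 < orderOf b := orderOf_pos b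
  have hn1 : orderOf b ≠ 1 := fun h1 => hb (orderOf_eq_one_iff.1 h1)
  obtain ⟨p, hp, hpd⟩ := Nat.exists_prime_and_dvd hn1
  have := Fact.mk hp
  obtain ⟨m, hm⟩ := hpd
  have hm0 : m ≠ 0 := by
    rintro rfl; rw [mul_zero] at hm; omega
  have hord : orderOf (b ^ m) = p := by
    rw [orderOf_pow' b hm0, hm, Nat.gcd_eq_right (Dvd.intro_left p rfl)]
    exact Nat.mul_div_cancel p (Nat.pos_of_ne_zero hm0)
  have h1 : a ∈ centralizer ({b ^ m} : Set G) := by
    rw [mem_centralizer_singleton_iff]; exact hab.pow_right m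
  have h2 : c ∈ centralizer ({b ^ m} : Set G) := by
    rw [mem_centralizer_singleton_iff]; exact hbc.symm.pow_right m
  exact cent_comm_prime hna h hord a h1 c h2

theorem card_sylow_congr {H : Type*} [Group H] [Finite H] {p : ℕ} [Fact p.Prime] (e : G ≃* H) :
    Nat.card (Sylow p G) = Nat.card (Sylow p H) := by
  have P : Sylow p G := default
  let Q : Sylow p H := P.mapSurjective (f := e.toMonoidHom) e.surjective
  rw [P.card_eq_index_normalizer, Q.card_eq_index_normalizer]
  have h1 := Subgroup.map_equiv_normalizer_eq (P : Subgroup G) e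
  have h2 : (normalizer (Q : Set H)) = (normalizer ((P : Subgroup G) : Set G)).map (e : G →* H) := h1.symm
  rw [h2, Subgroup.index_map_equiv]
  rfl

theorem sn_forward [IsSimpleGroup G] (hna : ¬ IsMulCommutative G) (h : SN G) :
    ∃ n : ℕ, 2 ≤ n ∧ (2 ^ n - 1).Prime ∧
      Nonempty (G ≃* Matrix.ProjectiveSpecialLinearGroup (Fin 2) (GaloisField 2 n)) := by
  classical
  obtain ⟨F, _, _, hch, h4, ⟨e⟩⟩ := ct_simple hna (sn_ct hna h)
  obtain ⟨n, -, hn⟩ := FiniteField.card F 2
  set q := Fintype.card F with hq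
  have hn2 : 2 ≤ (n : ℕ) := by
    rw [hn] at h4
    by_contra h5
    push Not at h5
    have h6 : (n : ℕ) = 1 := by have := n.pos; omega
    rw [h6] at h4
    norm_num at h4
  have := Fact.mk Nat.prime_two
  have hGc : Nat.card G = q * (q ^ 2 - 1) := by rw [Nat.card_congr e.toEquiv, H25.SL2Card.card_SL2]
  have hq1 : 1 < q := Fintype.one_lt_card
  have hqe : 2 ∣ q := two_dvd_card
  have hqodd : ¬ 2 ∣ q ^ 2 - 1 := by
    obtain ⟨c, hc⟩ := hqe
    have h1 : q ^ 2 = 2 * (2 * c ^ 2) := by rw [hc]; ring
    have h2 : 4 ≤ q ^ 2 := by nlinarith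
    omega
  have P : Sylow 2 G := default
  have hPc : Nat.card P = q := by
    rw [H6.SL2Sylow.card_sylow_of_card (a := n) (m := q ^ 2 - 1) (by rw [hGc, ← hn]) hqodd P, ← hn]
  have hP1 : (P : Subgroup G) ≠ ⊥ := by
    intro h1
    have h2 : Nat.card (P : Subgroup G) = 1 := by rw [h1]; simp
    rw [hPc] at h2; omega
  obtain ⟨⟨r, hr, hrN⟩, -⟩ := normalizer_facts hna h P hP1
  -- the centralizer
  have hCc : Nat.card (centralizer ((P : Subgroup G) : Set G)) = q := by
    obtain ⟨t, ht⟩ := exists_prime_orderOf_dvd_card' (G := (P : Subgroup G)) 2 (by rw [hPc]; exact hqe)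
    have ht2 : orderOf (t : G) = 2 := by rw [Subgroup.orderOf_coe]; exact ht
    have htt : e (t : G) * e t = 1 := by
      rw [← map_mul, H25.Isolated.self_mul_self ht2, map_one]
    have ht1 : e (t : G) ≠ 1 := by
      intro h1
      have : (t : G) = 1 := e.injective (by rw [h1, map_one])
      rw [this, orderOf_one] at ht2; omega
    apply le_antisymm
    · have h1 : Nat.card (centralizer ({e (t : G)} : Set (SpecialLinearGroup (Fin 2) F))) = q :=
        card_cent_invol htt ht1
      rw [← h1]
      refine Nat.card_le_card_of_injective (fun y => ⟨e (y : G), ?_⟩) ?_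
      · rw [mem_cent, ← map_mul, ← map_mul]
        congr 1
        exact (mem_centralizer_iff.1 y.2 t t.2).symm
      · intro a b hab
        exact Subtype.ext (e.injective (congrArg Subtype.val hab))
    · rw [← hPc]
      apply Subgroup.card_le_of_le
      intro x hx
      rw [mem_centralizer_iff]
      intro y hy
      exact syl_comm hna h P y hy x hx
  -- the normalizer
  have hNc : (q + 1) * Nat.card (normalizer ((P : Subgroup G) : Set G)) = q * (q ^ 2 - 1) := by
    have h1 := H6.SL2Sylow.card_sylow_sl2 (F := F) (p := 2)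
    rw [← card_sylow_congr e, P.card_eq_index_normalizer] at h1
    rw [← hGc, ← Subgroup.index_mul_card (normalizer ((P : Subgroup G) : Set G))]
    congr 1
    exact h1.symm
  rw [hrN, hCc] at hNc
  have hr' : r = q - 1 := by
    obtain ⟨k, hk⟩ : ∃ k, q = k + 1 := ⟨q - 1, by omega⟩
    rw [hk] at hNc ⊢
    have e1 : (k + 1) ^ 2 - 1 = k * (k + 2) := by
      have : (k + 1) ^ 2 = k * (k + 2) + 1 := by ring
      omega
    rw [e1] at hNc
    have e2 : (k + 1) * (k + 2) * r = (k + 1) * (k + 2) * k := by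
      calc (k + 1) * (k + 2) * r = (k + 1 + 1) * (r * (k + 1)) := by ring
        _ = (k + 1) * (k * (k + 2)) := hNc
        _ = _ := by ring
    have := Nat.eq_of_mul_eq_mul_left (by positivity) e2
    omega
  refine ⟨n, hn2, by rw [← hn, ← hr']; exact hr, ?_⟩
  have := Fintype.ofFinite (GaloisField 2 n)
  have hcard : Fintype.card F = Fintype.card (GaloisField 2 n) := by
    rw [← Nat.card_eq_fintype_card (α := GaloisField 2 n), GaloisField.card 2 n n.ne_zero]
    exact hn
  obtain ⟨e3⟩ := H21.PSLTransport.psl_congr_card hcard (Fin 2)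
  exact ⟨(e.trans (slEquivPsl F)).trans e3⟩

end H2.CI
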