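import Cfsg.Agent.Lib.H2.CI.SN5

set_option autoImplicit false

/-! `SL₂(2^n)`: conjugates commuting with an element. -/

namespace H2.CI

open Subgroup Matrix
open scoped Pointwise

section

variable {F : Type*} [Field F] [Fintype F] [CharP F 2]

theorem two_eq_zero (F : Type*) [Field F] [CharP F 2] : (2 : F) = 0 := by
  have := CharP.cast_eq_zero F 2
  exact_mod_cast this

omit [Fintype F] [CharP F 2] in
theorem coe_mul' (a b : SpecialLinearGroup (Fin 2) F) :
    ((a * b : SpecialLinearGroup (Fin 2) F) : Matrix (Fin 2) (Fin 2) F) =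
      (a : Matrix (Fin 2) (Fin 2) F) * (b : Matrix (Fin 2) (Fin 2) F) := rfl

omit [Fintype F] in
/-- Cayley–Hamilton in characteristic two -/
theorem ch2 (z : SpecialLinearGroup (Fin 2) F) :
    (z : Matrix (Fin 2) (Fin 2) F) * (z : Matrix (Fin 2) (Fin 2) F) =
      (z : Matrix (Fin 2) (Fin 2) F).trace • (z : Matrix (Fin 2) (Fin 2) F) + 1 := by
  have hd := z.det_coe
  rw [det_fin_two] at hd
  have h2 := two_eq_zero F
  ext i j
  fin_cases i <;> fin_cases j
  · simp [Matrix.mul_apply, Fin.sum_univ_two, trace_fin_two]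
    linear_combination -hd - h2
  · simp [Matrix.mul_apply, Fin.sum_univ_two, trace_fin_two]
    ring
  · simp [Matrix.mul_apply, Fin.sum_univ_two, trace_fin_two]
    ring
  · simp [Matrix.mul_apply, Fin.sum_univ_two, trace_fin_two]
    linear_combination -hd - h2

theorem trace_ne_zero {z : SpecialLinearGroup (Fin 2) F} (hz : z * z ≠ 1) :
    (z : Matrix (Fin 2) (Fin 2) F).trace ≠ 0 := by
  intro h1
  apply hz
  apply Subtype.ext
  have := ch2 z
  rw [h1, zero_smul, zero_add] at this
  exact this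

theorem trace_conj (g z : SpecialLinearGroup (Fin 2) F) :
    ((g * z * g⁻¹ : SpecialLinearGroup (Fin 2) F) : Matrix (Fin 2) (Fin 2) F).trace =
      (z : Matrix (Fin 2) (Fin 2) F).trace := by
  rw [coe_mul', coe_mul', Matrix.trace_mul_comm, ← Matrix.mul_assoc, ← coe_mul', inv_mul_cancel]
  simp

/-- (B3) -/
theorem conj_eq_or_inv {g z : SpecialLinearGroup (Fin 2) F} (hz : z * z ≠ 1)
    (hc : g * z * g⁻¹ * z = z * (g * z * g⁻¹)) : g * z * g⁻¹ = z ∨ g * z * g⁻¹ = z⁻¹ := by
  have h2 := two_eq_zero F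
  have hz1 : z ≠ 1 := by rintro rfl; exact hz (one_mul 1)
  have hs := not_isScal hz1
  have ht := trace_ne_zero hz
  have h1 : (z : Matrix (Fin 2) (Fin 2) F) * ((g * z * g⁻¹ : SpecialLinearGroup (Fin 2) F) : Matrix (Fin 2) (Fin 2) F) =
      ((g * z * g⁻¹ : SpecialLinearGroup (Fin 2) F) : Matrix (Fin 2) (Fin 2) F) * (z : Matrix (Fin 2) (Fin 2) F) := by
    rw [← coe_mul', ← coe_mul', hc]
  obtain ⟨x, y, hxy⟩ := (H43.GL2Basic.commute_iff hs _).1 h1
  have htr := trace_conj g z
  rw [hxy] at htr
  rw [trace_add, trace_smul, trace_smul, trace_one] at htr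
  simp only [Fintype.card_fin, smul_eq_mul, Nat.cast_ofNat] at htr
  have hy : y = 1 := by
    have h3 : (y - 1) * (z : Matrix (Fin 2) (Fin 2) F).trace = 0 := by
      linear_combination htr - x * h2
    exact sub_eq_zero.1 ((mul_eq_zero.1 h3).resolve_right ht)
  subst hy
  have hd := (g * z * g⁻¹).det_coe
  rw [hxy, det_fin_two] at hd
  have hdz := z.det_coe
  rw [det_fin_two] at hdz
  rw [trace_fin_two] at ht
  simp at hd
  have h3 : x * (x + (z 0 0 + z 1 1)) = 0 := by linear_combination hd - hdz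
  rcases mul_eq_zero.1 h3 with h4 | h4
  · left
    apply Subtype.ext
    show ((g * z * g⁻¹ : SpecialLinearGroup (Fin 2) F) : Matrix (Fin 2) (Fin 2) F) = z
    rw [hxy, h4, zero_smul, zero_add, one_smul]
  · right
    apply eq_inv_of_mul_eq_one_left
    apply Subtype.ext
    show ((g * z * g⁻¹ * z : SpecialLinearGroup (Fin 2) F) : Matrix (Fin 2) (Fin 2) F) = 1
    have h5 : x = (z : Matrix (Fin 2) (Fin 2) F).trace := by
      rw [trace_fin_two]
      linear_combination h4 - h2 * (z 0 0 + z 1 1)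
    rw [coe_mul', hxy, h5, one_smul, add_mul, ch2, smul_mul_assoc, one_mul, ← add_assoc, ← add_smul]
    have h6 : (z : Matrix (Fin 2) (Fin 2) F).trace + (z : Matrix (Fin 2) (Fin 2) F).trace = 0 := by
      linear_combination h2 * (z : Matrix (Fin 2) (Fin 2) F).trace
    rw [h6, zero_smul, zero_add]

/-- (B2) -/
theorem sq_of_comm_invol {t s : SpecialLinearGroup (Fin 2) F} (ht : t * t = 1) (ht1 : t ≠ 1)
    (hs : s * t = t * s) : s * s = 1 := by
  by_contra h1
  have hs1 : s ≠ 1 := by rintro rfl; exact h1 (one_mul 1)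
  have hsc := not_isScal hs1
  have h2 : (s : Matrix (Fin 2) (Fin 2) F) * (t : Matrix (Fin 2) (Fin 2) F) =
      (t : Matrix (Fin 2) (Fin 2) F) * (s : Matrix (Fin 2) (Fin 2) F) := by
    rw [← coe_mul', ← coe_mul', hs]
  obtain ⟨x, y, hxy⟩ := (H43.GL2Basic.commute_iff hsc _).1 h2
  have htr := trace_of_invol ht ht1
  rw [hxy, trace_add, trace_smul, trace_smul, trace_one] at htr
  simp only [Fintype.card_fin, smul_eq_mul, Nat.cast_ofNat] at htr
  have h3 : y * (s : Matrix (Fin 2) (Fin 2) F).trace = 0 := by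
    linear_combination htr - x * two_eq_zero F
  have hy := (mul_eq_zero.1 h3).resolve_right (trace_ne_zero h1)
  rw [hy, zero_smul, add_zero] at hxy
  apply not_isScal ht1
  rw [hxy]
  refine ⟨by simp, by simp, by simp⟩

end

/-- (B4): the Borel subgroup -/
theorem card_borel {X : Type*} [Group X] [Finite X] {F : Type*} [Field F] [Fintype F] [CharP F 2]
    (e : X ≃* SpecialLinearGroup (Fin 2) F) {t : X} (ht : orderOf t = 2) :
    Nat.card (centralizer ({t} : Set X)) = Fintype.card F ∧
    Nat.card (normalizer (centralizer ({t} : Set X) : Set X)) = Fintype.card F * (Fintype.card F - 1) := by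
  classical
  obtain ⟨n, -, hn⟩ := FiniteField.card F 2
  have hn' := hn
  set q := Fintype.card F with hq
  have := Fact.mk Nat.prime_two
  have hGc : Nat.card X = q * (q ^ 2 - 1) := by rw [Nat.card_congr e.toEquiv, H25.SL2Card.card_SL2]
  have hq1 : 1 < q := Fintype.one_lt_card
  have hqe : 2 ∣ q := two_dvd_card
  have hqodd : ¬ 2 ∣ q ^ 2 - 1 := by
    obtain ⟨c, hc⟩ := hqe
    have h1 : q ^ 2 = 2 * (2 * c ^ 2) := by rw [hc]; ring
    have h2 : 4 ≤ q ^ 2 := by nlinarith
    omega
  have htt : e t * e t = 1 := by rw [← map_mul, H25.Isolated.self_mul_self ht, map_one]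
  have ht1 : e t ≠ 1 := by
    intro h1
    have : t = 1 := e.injective (by rw [h1, map_one])
    rw [this, orderOf_one] at ht; omega
  have hC : Nat.card (centralizer ({t} : Set X)) = q := by
    have h1 : Nat.card (centralizer ({e t} : Set (SpecialLinearGroup (Fin 2) F))) = q :=
      card_cent_invol htt ht1
    rw [← h1]
    apply Nat.card_congr
    exact
      { toFun := fun y => ⟨e y, by
          rw [mem_cent, ← map_mul, ← map_mul, mem_cent.1 y.2]⟩
        invFun := fun y => ⟨e.symm y, by
          rw [mem_cent]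
          apply e.injective
          rw [map_mul, map_mul, MulEquiv.apply_symm_apply]
          exact mem_cent.1 y.2⟩
        left_inv := fun y => by simp
        right_inv := fun y => by simp }
  refine ⟨hC, ?_⟩
  let P : Sylow 2 X := H6.SL2Sylow.sylowOfCard (a := n) (m := q ^ 2 - 1) (by rw [hGc, ← hn]) hqodd
    (centralizer ({t} : Set X)) (by rw [hC, hn])
  have hP : (P : Subgroup X) = centralizer ({t} : Set X) := rfl
  have h1 := H6.SL2Sylow.card_sylow_sl2 (F := F) (p := 2)
  rw [← card_sylow_congr e, P.card_eq_index_normalizer] at h1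
  have h2 : (normalizer (centralizer ({t} : Set X) : Set X)).index = q + 1 := h1
  have h3 := Subgroup.index_mul_card (normalizer (centralizer ({t} : Set X) : Set X))
  rw [h2, hGc] at h3
  obtain ⟨k, hk⟩ : ∃ k, q = k + 1 := ⟨q - 1, by omega⟩
  rw [hk] at h3 ⊢
  have e1 : (k + 1) ^ 2 - 1 = k * (k + 2) := by
    have : (k + 1) ^ 2 = k * (k + 2) + 1 := by ring
    omega
  rw [e1] at h3
  have e2 : (k + 2) * Nat.card (normalizer (centralizer ({t} : Set X) : Set X)) =
      (k + 2) * ((k + 1) * (k + 1 - 1)) := by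
    rw [Nat.add_sub_cancel]
    calc _ = (k + 1 + 1) * Nat.card (normalizer (centralizer ({t} : Set X) : Set X)) := by ring
      _ = (k + 1) * (k * (k + 2)) := h3
      _ = _ := by ring
  exact Nat.eq_of_mul_eq_mul_left (by positivity) e2

end H2.CI
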