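import Cfsg.Agent.Lib.H2.CI.SN6
import Cfsg.Agent.Lib.H2.Solv

set_option autoImplicit false

/-! `SL₂(2^n)`, `2^n - 1` prime: nonabelian subgroups are self-normalizing. -/

namespace H2.CI

open Subgroup H25.Isolated
open scoped Pointwise

universe u

/-- facts on `SL₂(q)`, `q` even -/
structure SF (G : Type u) [Group G] (q : ℕ) : Prop where
  ct : CT G
  b2 : ∀ t s : G, t * t = 1 → t ≠ 1 → s * t = t * s → s * s = 1
  b3 : ∀ g z : G, z * z ≠ 1 → g * z * g⁻¹ * z = z * (g * z * g⁻¹) → g * z * g⁻¹ = z ∨ g * z * g⁻¹ = z⁻¹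
  cardC : ∀ t : G, orderOf t = 2 → Nat.card (centralizer ({t} : Set G)) = q
  cardN : ∀ t : G, orderOf t = 2 →
    Nat.card (normalizer (centralizer ({t} : Set G) : Set G)) = q * (q - 1)
  cardG : Nat.card G = q * (q ^ 2 - 1)

theorem sf_sl2 {F : Type*} [Field F] [Fintype F] [CharP F 2] :
    SF (Matrix.SpecialLinearGroup (Fin 2) F) (Fintype.card F) where
  ct := ct_sl2
  b2 := fun _ _ ht ht1 hs => sq_of_comm_invol ht ht1 hs
  b3 := fun _ _ hz hc => conj_eq_or_inv hz hc
  cardC := fun _ ht => (card_borel (MulEquiv.refl _) ht).1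
  cardN := fun _ ht => (card_borel (MulEquiv.refl _) ht).2
  cardG := H25.SL2Card.card_SL2

theorem comm_of_sq {G : Type*} [Group G] {h v : G} (hodd : Odd (orderOf h)) (hc : Commute (h * h) v) :
    Commute h v := by
  obtain ⟨k, hk⟩ := hodd
  have h1 : (h * h) ^ (k + 1) = h := by
    rw [← pow_two, ← pow_mul]
    have : 2 * (k + 1) = orderOf h + 1 := by omega
    rw [this, pow_succ, pow_orderOf_eq_one, one_mul]
  have h2 := hc.pow_left (k + 1)
  rwa [h1] at h2

theorem sq_ne_one {G : Type*} [Group G] {h : G} (hodd : Odd (orderOf h)) (h1 : h ≠ 1) : h * h ≠ 1 := by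
  intro h2
  have h3 : orderOf h ∣ 2 := orderOf_dvd_of_pow_eq_one (by rw [pow_two]; exact h2)
  rcases (Nat.dvd_prime Nat.prime_two).1 h3 with h4 | h4
  · exact h1 (orderOf_eq_one_iff.1 h4)
  · rw [h4] at hodd; exact absurd hodd (by decide)

section

variable {G : Type u} [Group G] [Finite G] {q : ℕ}

/-- odd order subgroups are abelian -/
theorem SF.odd_comm (hs : SF G q) (H : Subgroup G) (hodd : Odd (Nat.card H)) :
    ∀ a ∈ H, ∀ b ∈ H, a * b = b * a := by
  classical
  have hsol : Group.IsSolvable H := by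
    apply Cfsg.Agent.S0182.result hodd
    intro x hx a ha b hb
    apply Subtype.ext
    apply hs.ct.ca (x := (x : G)) (fun h1 => hx (Subtype.ext h1))
    · exact congrArg Subtype.val (mem_cent.1 ha)
    · exact congrArg Subtype.val (mem_cent.1 hb)
  intro a ha b hb
  by_cases ha1 : a = 1
  · rw [ha1]; simp
  have hnt : Nontrivial H := ⟨⟨⟨a, ha⟩, 1, fun h1 => ha1 (congrArg Subtype.val h1)⟩⟩
  obtain ⟨p, -, V, hVn, hV1, -, hVc⟩ := H2.Solv.exists_normal_abelian_pgroup H hsol
  obtain ⟨v, hv, hv1⟩ := (Subgroup.ne_bot_iff_exists_ne_one.1 hV1) |> fun ⟨w, hw⟩ =>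
    (⟨(w : H), w.2, fun h1 => hw (Subtype.ext h1)⟩ : ∃ v : H, v ∈ V ∧ v ≠ 1)
  have hodd' : ∀ x : H, Odd (orderOf (x : G)) := by
    intro x
    rw [Subgroup.orderOf_coe]
    exact Odd.of_dvd_nat hodd (orderOf_dvd_natCard x)
  have hvG : (v : G) ≠ 1 := fun h1 => hv1 (Subtype.ext h1)
  have hvv := sq_ne_one (hodd' v) hvG
  have key : ∀ h : H, (h : G) * v = v * h := by
    intro h
    have h1 : h * v * h⁻¹ ∈ V := hVn.conj_mem v hv h
    have h2 : h * v * h⁻¹ * v = v * (h * v * h⁻¹) := by
      have := hVc.is_comm.comm ⟨_, h1⟩ ⟨v, hv⟩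
      exact congrArg Subtype.val this
    rcases hs.b3 h v hvv (congrArg Subtype.val h2) with h3 | h3
    · exact mul_inv_eq_iff_eq_mul.1 h3
    · exfalso
      have h4 : Commute ((h : G) * h) v := by
        show (h : G) * h * v = v * (h * h)
        have h5 : (h : G) * v = (v : G)⁻¹ * h := mul_inv_eq_iff_eq_mul.1 h3
        have h6 : (h : G) * (v : G)⁻¹ = v * h := by
          have := congrArg (fun x => x⁻¹) h3
          simp only [mul_inv_rev, inv_inv] at this
          have h7 : (h : G) * ((v : G)⁻¹ * (h : G)⁻¹) * h = v * h := by rw [this]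
          have h8 : (h : G) * ((v : G)⁻¹ * (h : G)⁻¹) * h = h * (v : G)⁻¹ := by group
          rw [← h8]; exact h7
        calc (h : G) * h * v = h * (h * v) := by group
          _ = (h * (v : G)⁻¹) * h := by rw [h5]; group
          _ = v * (h * h) := by rw [h6]; group
      have h5 : Commute (h : G) v := comm_of_sq (hodd' h) h4
      apply hvv
      have h6 : (h : G) * v * (h : G)⁻¹ = v := by rw [h5.eq]; group
      rw [h6] at h3
      calc (v : G) * v = v * (v : G)⁻¹ := by rw [← h3]
        _ = 1 := mul_inv_cancel _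
  exact hs.ct.ca hvG (key ⟨a, ha⟩) (key ⟨b, hb⟩)

/-- subgroups of the Borel subgroup -/
theorem SF.borel_case (hs : SF G q) (hr : (q - 1).Prime) {H : Subgroup G} {t : G} (htH : t ∈ H)
    (ht : orderOf t = 2) (hHN : H ≤ normalizer (centralizer ({t} : Set G) : Set G))
    (hx : ∃ x ∈ H, x ∉ centralizer ({t} : Set G)) :
    H = normalizer (centralizer ({t} : Set G) : Set G) := by
  classical
  set S := centralizer ({t} : Set G) with hS
  set B := normalizer (S : Set G) with hB
  have hSB : S ≤ B := le_normalizer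
  have hq : 0 < q := by rw [← hs.cardC t ht]; exact Nat.card_pos
  have hidx : S.relIndex B = q - 1 := by
    have h1 : S.relIndex B * Nat.card S = Nat.card B := by
      have := Subgroup.relIndex_mul_relIndex ⊥ S B bot_le hSB
      rw [relIndex_bot_left, relIndex_bot_left] at this
      rw [mul_comm]; exact this
    rw [hs.cardC t ht, hs.cardN t ht, mul_comm q] at h1
    exact Nat.eq_of_mul_eq_mul_right hq h1
  have hdvd : S.relIndex H ∣ q - 1 := by
    have hn : (S.subgroupOf B).Normal := Subgroup.normal_in_normalizer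
    have h1 := Subgroup.relIndex_dvd_index_of_normal (S.subgroupOf B) (H.subgroupOf B)
    rw [relIndex_subgroupOf hHN] at h1
    rw [← hidx]; exact h1
  obtain ⟨x, hxH, hxS⟩ := hx
  have hne1 : S.relIndex H ≠ 1 := by
    intro h1
    exact hxS (relIndex_eq_one.1 h1 hxH)
  have hi : S.relIndex H = q - 1 := (Nat.Prime.eq_one_or_self_of_dvd hr _ hdvd).resolve_left hne1
  -- the class of `t`
  let t' : H := ⟨t, htH⟩
  have hC : centralizer ({t'} : Set H) = S.subgroupOf H := by
    ext y
    rw [mem_cent, mem_subgroupOf, hS, mem_cent]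
    constructor
    · intro h1; exact congrArg Subtype.val h1
    · intro h1; exact Subtype.ext h1
  have hcl : Nat.card {y : H // IsConj t' y} = q - 1 := by
    rw [H18.CharInd.card_isConj_eq_index, hC]
    exact hi
  have hCI := hs.ct.ci
  have hmem : ∀ y : {y : H // IsConj t' y}, ((y : H) : G) ∈ H ⊓ S := by
    intro y
    refine mem_inf.2 ⟨(y : H).2, ?_⟩
    obtain ⟨h, hh⟩ := isConj_iff.1 y.2
    have h1 : ((y : H) : G) = h * t * (h : G)⁻¹ := (congrArg Subtype.val hh).symm
    rw [h1]
    exact (mem_normalizer_iff.1 (hHN h.2) t).1 (mem_cent.2 rfl)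
  have hle : q ≤ Nat.card (H ⊓ S : Subgroup G) := by
    have h1 : Nat.card (Option {y : H // IsConj t' y}) ≤ Nat.card (H ⊓ S : Subgroup G) := by
      let f : Option {y : H // IsConj t' y} → (H ⊓ S : Subgroup G) := fun o => match o with
        | none => 1
        | some y => ⟨_, hmem y⟩
      have hne : ∀ y : {y : H // IsConj t' y}, ((y : H) : G) ≠ 1 := by
        intro y hy
        obtain ⟨h, hh⟩ := isConj_iff.1 y.2
        have h1 : ((y : H) : G) = h * t * (h : G)⁻¹ := (congrArg Subtype.val hh).symm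
        rw [hy] at h1
        have h2 : t = 1 := by
          have : t = (h : G)⁻¹ * (h * t * (h : G)⁻¹) * h := by group
          rw [this, ← h1]; group
        rw [h2, orderOf_one] at ht; omega
      apply Nat.card_le_card_of_injective f
      intro o o' hoo
      match o, o' with
      | none, none => rfl
      | none, some y => exact absurd (congrArg Subtype.val hoo).symm (hne y)
      | some y, none => exact absurd (congrArg Subtype.val hoo) (hne y)
      | some y, some y' =>
        have h2 : ((y : H) : G) = ((y' : H) : G) :=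
          congrArg (fun z : (H ⊓ S : Subgroup G) => (z : G)) hoo
        exact congrArg some (Subtype.ext (Subtype.ext h2))
    rw [Finite.card_option, hcl] at h1
    omega
  have hSH : S ≤ H := by
    have h1 : (H ⊓ S : Subgroup G) = S := Subgroup.eq_of_le_of_card_ge inf_le_right (by
      rw [hs.cardC t ht]; exact hle)
    rw [← h1]; exact inf_le_left
  apply Subgroup.eq_of_le_of_card_ge hHN
  have h1 : S.relIndex H * Nat.card S = Nat.card H := by
    have := Subgroup.relIndex_mul_relIndex ⊥ S H bot_le hSH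
    rw [relIndex_bot_left, relIndex_bot_left] at this
    rw [mul_comm]; exact this
  rw [hs.cardN t ht, ← h1, hi, hs.cardC t ht, mul_comm]

/-- the case `SL₂` -/
theorem SF.sl_case (hs : SF G q) (hr : (q - 1).Prime) {H : Subgroup G} {t s : G} (htH : t ∈ H)
    (ht : orderOf t = 2) (hsH : s ∈ H) (hs2 : orderOf s = 2) (hst : s ≠ t) (hc : s * t = t * s)
    (hHN : ¬ H ≤ normalizer (centralizer ({t} : Set G) : Set G)) : H = ⊤ := by
  classical
  have hCI := hs.ct.ci
  let t' : H := ⟨t, htH⟩
  let s' : H := ⟨s, hsH⟩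
  have ht' : orderOf t' = 2 := by rw [← Subgroup.orderOf_coe]; exact ht
  have hs' : orderOf s' = 2 := by rw [← Subgroup.orderOf_coe]; exact hs2
  have hst' : s' ≠ t' := fun h1 => hst (congrArg Subtype.val h1)
  have hc' : s' * t' = t' * s' := Subtype.ext hc
  have hM : normalizer (centralizer ({t'} : Set H) : Set H) ≠ ⊤ := by
    intro h1
    apply hHN
    intro h hh
    have h2 : (⟨h, hh⟩ : H) ∈ normalizer (centralizer ({t'} : Set H) : Set H) := by rw [h1]; trivial
    have h3 : (⟨h, hh⟩ : H) * t' * (⟨h, hh⟩ : H)⁻¹ ∈ centralizer ({t'} : Set H) :=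
      (mem_normalizer_iff.1 h2 t').1 (mem_cent.2 rfl)
    have h4 : h * t * h⁻¹ ∈ centralizer ({t} : Set G) := by
      rw [mem_cent] at h3 ⊢
      exact congrArg Subtype.val h3
    rw [mem_norm_iff, conj_cent]
    exact cent_eq_of_mem hCI (by
      have : h * t * h⁻¹ = MulAut.conj h t := by simp
      rw [this, MulEquiv.orderOf_eq, ht]) ht h4
  obtain ⟨F, _, _, A, _, _, hch, hA, ⟨e⟩⟩ :=
    main_aux (Nat.card H) H le_rfl (hCI.subgroup H) t' s' ht' hs' hst' hc' hM
  have h4 : 4 ≤ Fintype.card F := four_le hA e ht' hs' hst' hc'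
  set q₀ := Fintype.card F with hq₀
  have hcardSL := H25.SL2Card.card_SL2 (K := F)
  have hbig : 1 < Nat.card (Matrix.SpecialLinearGroup (Fin 2) F) := by
    rw [hcardSL]
    have h5 : 16 ≤ Fintype.card F ^ 2 := by
      calc 16 = 4 * 4 := by norm_num
        _ ≤ Fintype.card F * Fintype.card F := Nat.mul_le_mul h4 h4
        _ = _ := by ring
    calc 1 < 4 * 15 := by norm_num
      _ ≤ _ := Nat.mul_le_mul h4 (by omega)
  -- A is trivial
  have hA1 : ∀ a : A, a = 1 := by
    intro a
    by_contra ha
    set z : H := e.symm (1, a) with hz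
    have hz1 : (z : G) ≠ 1 := by
      intro h5
      apply ha
      have h6 : z = 1 := Subtype.ext h5
      have h7 : e z = 1 := by rw [h6, map_one]
      rw [hz, MulEquiv.apply_symm_apply] at h7
      exact congrArg Prod.snd h7
    have hcomm : ∀ x y : Matrix.SpecialLinearGroup (Fin 2) F, x * y = y * x := by
      intro x y
      have key : ∀ w : Matrix.SpecialLinearGroup (Fin 2) F,
          ((e.symm (w, 1) : H) : G) * z = z * (e.symm (w, 1) : H) := by
        intro w
        have : e.symm (w, 1) * z = z * e.symm (w, 1) := by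
          rw [hz, ← map_mul, ← map_mul]
          congr 1
          apply Prod.ext <;> simp
        exact congrArg Subtype.val this
      have h5 := hs.ct.ca hz1 (key x) (key y)
      have h6 : e.symm (x, 1) * e.symm (y, 1) = e.symm (y, 1) * e.symm (x, 1) := Subtype.ext h5
      rw [← map_mul, ← map_mul] at h6
      exact congrArg Prod.fst (e.symm.injective h6)
    have h5 : Subgroup.center (Matrix.SpecialLinearGroup (Fin 2) F) = ⊤ := by
      rw [eq_top_iff]
      intro x _
      rw [mem_center_iff]
      exact fun y => hcomm y x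
    rw [H25.SL2Card.center_SL2_char_two] at h5
    have h6 : Nat.card (⊥ : Subgroup (Matrix.SpecialLinearGroup (Fin 2) F)) = 1 := by simp
    rw [h5, Subgroup.card_top] at h6
    omega
  let f : H →* Matrix.SpecialLinearGroup (Fin 2) F := (MonoidHom.fst _ _).comp e.toMonoidHom
  have hf : Function.Bijective f := by
    constructor
    · rw [injective_iff_map_eq_one]
      intro x hx
      apply e.injective
      rw [map_one]
      exact Prod.ext hx (hA1 _)
    · intro y
      exact ⟨e.symm (y, 1), by
        show (e (e.symm (y, 1))).1 = y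
        rw [MulEquiv.apply_symm_apply]⟩
  let e₁ : H ≃* Matrix.SpecialLinearGroup (Fin 2) F := MulEquiv.ofBijective f hf
  obtain ⟨hb1, hb2⟩ := card_borel e₁ ht'
  -- the Borel subgroup of `H`
  set H₁ := (normalizer (centralizer ({t'} : Set H) : Set H)).map H.subtype with hH₁
  have hH₁c : Nat.card H₁ = q₀ * (q₀ - 1) := by
    rw [← hb2]
    exact Nat.card_congr (Subgroup.equivMapOfInjective _ _ H.subtype_injective).toEquiv.symm
  have hH₁N : H₁ ≤ normalizer (centralizer ({t} : Set G) : Set G) := by
    rintro _ ⟨h, hh, rfl⟩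
    have h3 : h * t' * h⁻¹ ∈ centralizer ({t'} : Set H) :=
      (mem_normalizer_iff.1 hh t').1 (mem_cent.2 rfl)
    have h4 : (h : G) * t * (h : G)⁻¹ ∈ centralizer ({t} : Set G) := by
      rw [mem_cent] at h3 ⊢
      exact congrArg Subtype.val h3
    show (h : G) ∈ _
    rw [mem_norm_iff, conj_cent]
    exact cent_eq_of_mem hCI (by
      have : (h : G) * t * (h : G)⁻¹ = MulAut.conj (h : G) t := by simp
      rw [this, MulEquiv.orderOf_eq, ht]) ht h4
  have htH₁ : t ∈ H₁ := ⟨t', le_normalizer (mem_cent.2 rfl), rfl⟩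
  have hxH₁ : ∃ x ∈ H₁, x ∉ centralizer ({t} : Set G) := by
    by_contra hcon
    push Not at hcon
    have h5 : normalizer (centralizer ({t'} : Set H) : Set H) ≤ centralizer ({t'} : Set H) := by
      intro h hh
      have h6 := hcon h ⟨h, hh, rfl⟩
      rw [mem_cent] at h6 ⊢
      exact Subtype.ext h6
    have h6 := Subgroup.card_le_of_le h5
    rw [hb1, hb2] at h6
    have h7 : Fintype.card F * 3 ≤ Fintype.card F * (Fintype.card F - 1) :=
      Nat.mul_le_mul_left _ (by omega)
    omega
  have h5 := hs.borel_case hr htH₁ ht hH₁N hxH₁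
  have h6 : q₀ * (q₀ - 1) = q * (q - 1) := by
    rw [← hH₁c, h5, hs.cardN t ht]
  have h7 : q₀ = q := by
    rcases lt_trichotomy q₀ q with h8 | h8 | h8
    · exfalso
      have : q₀ * (q₀ - 1) < q * (q - 1) := Nat.mul_lt_mul_of_lt_of_le h8 (by omega) (by omega)
      omega
    · exact h8
    · exfalso
      have hq1 : 2 ≤ q - 1 := hr.two_le
      have : q * (q - 1) < q₀ * (q₀ - 1) := Nat.mul_lt_mul_of_lt_of_le h8 (by omega) (by omega)
      omega
  apply Subgroup.eq_top_of_card_eq
  rw [Nat.card_congr e₁.toEquiv, hcardSL, hs.cardG, ← h7]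

end

end H2.CI
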