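import Cfsg.Agent.Lib.H2.CI.SN7

set_option autoImplicit false

/-! `SL₂(2^n)`, `2^n - 1` prime: nonabelian subgroups are self-normalizing. -/

namespace H2.CI

open Subgroup H25.Isolated
open scoped Pointwise

universe u

variable {G : Type u} [Group G] [Finite G] {q : ℕ}

theorem SF.dih_case (hs : SF G q) {H : Subgroup G} {t : G} (htH : t ∈ H)
    (ht : orderOf t = 2) (hna : ∃ a ∈ H, ∃ b ∈ H, a * b ≠ b * a)
    (huniq : ∀ s ∈ H, orderOf s = 2 → s * t = t * s → s = t) {g : G}
    (hg : g ∈ normalizer (H : Set G)) : g ∈ H := by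
  classical
  have := Fact.mk Nat.prime_two
  have hCI := hs.ct.ci
  have htt : t * t = 1 := self_mul_self ht
  have hti : t⁻¹ = t := inv_eq_self_of_sq htt
  have ht1 : t ≠ 1 := by rintro rfl; rw [orderOf_one] at ht; omega
  have hC : ∀ y ∈ H, y * t = t * y → y = 1 ∨ y = t := by
    intro y hy hyt
    have h1 := hs.b2 t y htt ht1 hyt
    by_cases hy1 : y = 1
    · exact Or.inl hy1
    · exact Or.inr (huniq y hy (orderOf_two_of h1 hy1) hyt)
  let t' : H := ⟨t, htH⟩
  have ht' : orderOf t' = 2 := by rw [← Subgroup.orderOf_coe]; exact ht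
  -- the Sylow 2-subgroup
  have hzp : IsPGroup 2 (zpowers t') := IsPGroup.of_card (n := 1) (by rw [Nat.card_zpowers, ht', pow_one])
  obtain ⟨T, hT⟩ := hzp.exists_le_sylow
  have htT : t' ∈ (T : Subgroup H) := hT (mem_zpowers t')
  have hTz : (T : Subgroup H) ≤ zpowers t' := by
    intro y hy
    have h1 := comm_of_isPGroup (hCI.subgroup H) T.isPGroup' hy htT
    rcases hC y y.2 (congrArg Subtype.val h1) with h2 | h2
    · rw [show y = 1 from Subtype.ext h2]; exact one_mem _
    · rw [show y = t' from Subtype.ext h2]; exact mem_zpowers _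
  have hTc : Nat.card T = 2 := by
    have h1 : (T : Subgroup H) = zpowers t' := le_antisymm hTz hT
    have h2 : Nat.card (T : Subgroup H) = 2 := by rw [h1, Nat.card_zpowers, ht']
    exact h2
  have hTcyc : IsCyclic (T : Subgroup H) := isCyclic_of_prime_card (p := 2) hTc
  have heven : Even (Nat.card H) := by
    have := orderOf_dvd_natCard t'
    rw [ht'] at this
    exact even_iff_two_dvd.2 this
  obtain ⟨V, hV⟩ := H5.IndexTwo.exists_index_two_of_cyclic_sylow heven T hTcyc
  have hVn : V.Normal := Subgroup.normal_of_index_eq_two hV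
  have hVodd : Odd (Nat.card V) := by
    rw [← Nat.not_even_iff_odd]
    intro hev
    have h1 : 2 ^ 2 ∣ Nat.card H := by
      rw [← Subgroup.index_mul_card V, hV, pow_two]
      exact Nat.mul_dvd_mul_left 2 (even_iff_two_dvd.1 hev)
    have h2 := T.pow_dvd_card_of_pow_dvd_card h1
    rw [hTc] at h2
    have := Nat.le_of_dvd (by norm_num) h2
    omega
  have hVo : ∀ v ∈ V, Odd (orderOf (v : G)) := by
    intro v hv
    rw [Subgroup.orderOf_coe]
    have := Subgroup.orderOf_dvd_natCard V hv
    exact Odd.of_dvd_nat hVodd this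
  have hVab : ∀ a ∈ V, ∀ b ∈ V, (a : G) * b = b * a := by
    intro a ha b hb
    have h1 : Odd (Nat.card (V.map H.subtype)) := by
      rw [← Nat.card_congr (Subgroup.equivMapOfInjective V H.subtype H.subtype_injective).toEquiv]
      exact hVodd
    exact hs.odd_comm _ h1 _ (mem_map_of_mem H.subtype ha) _ (mem_map_of_mem H.subtype hb)
  have htV : t' ∉ V := by
    intro h1
    have := hVo t' h1
    rw [show orderOf ((t' : H) : G) = 2 from ht] at this
    exact absurd this (by decide)
  have hcos : ∀ x : H, x ∉ V → t' * x ∈ V := by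
    intro x hx
    rw [Subgroup.mul_mem_iff_of_index_two hV]
    exact ⟨fun h1 => absurd h1 htV, fun h1 => absurd h1 hx⟩
  -- a nontrivial element of V
  obtain ⟨v, hvV, hv1⟩ : ∃ v ∈ V, v ≠ 1 := by
    by_contra hcon
    push Not at hcon
    obtain ⟨a, ha, b, hb, hab⟩ := hna
    have key : ∀ x ∈ H, x = 1 ∨ x = t := by
      intro x hx
      by_cases hxV : (⟨x, hx⟩ : H) ∈ V
      · exact Or.inl (congrArg Subtype.val (hcon _ hxV))
      · right
        have h1 := hcon _ (hcos _ hxV)
        have h2 : t * x = 1 := congrArg Subtype.val h1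
        have h3 : x = t⁻¹ := (inv_eq_of_mul_eq_one_right h2).symm
        rw [h3, hti]
    apply hab
    rcases key a ha with h1 | h1 <;> rcases key b hb with h2 | h2 <;> rw [h1, h2] <;> simp
  have hvG : (v : G) ≠ 1 := fun h1 => hv1 (Subtype.ext h1)
  have hvo := hVo v hvV
  have hvv : (v : G) * v ≠ 1 := sq_ne_one hvo hvG
  -- `t` inverts `v`
  have htv : t * v * t⁻¹ = (v : G)⁻¹ := by
    have h1 : t' * v * t'⁻¹ ∈ V := hVn.conj_mem v hvV t'
    have h2 : v * (t' * v * t'⁻¹) ∈ V := mul_mem hvV h1
    have h3 : (v : G) * (t * v * t⁻¹) * t = t * (v * (t * v * t⁻¹)) := by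
      have h4 : (v : G) * (t * v * t⁻¹) = (t * v * t⁻¹) * v := hVab v hvV _ h1
      calc (v : G) * (t * v * t⁻¹) * t = (t * v * t⁻¹) * v * t := by rw [h4]
        _ = t * (v * (t⁻¹ * v * t)) := by group
        _ = t * (v * (t * v * t⁻¹)) := by rw [hti]
    rcases hC _ (v * (t' * v * t'⁻¹)).2 h3 with h4 | h4
    · exact (inv_eq_of_mul_eq_one_right h4).symm
    · exfalso
      apply htV
      have h5 : v * (t' * v * t'⁻¹) = t' := Subtype.ext h4
      rw [← h5]; exact h2
  -- odd order elements of `H` are in `V`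
  have hVall : ∀ x : H, Odd (orderOf (x : G)) → x ∈ V := by
    intro x hx
    have h1 : x * x ∈ V := Subgroup.mul_self_mem_of_index_two hV x
    obtain ⟨k, hk⟩ := hx
    rw [Subgroup.orderOf_coe] at hk
    have h2 : (x * x) ^ (k + 1) = x := by
      rw [← pow_two, ← pow_mul]
      have : 2 * (k + 1) = orderOf x + 1 := by omega
      rw [this, pow_succ, pow_orderOf_eq_one, one_mul]
    rw [← h2]; exact pow_mem h1 _
  -- `g v g⁻¹ ∈ V`
  have hgH : g * v * g⁻¹ ∈ H := (mem_normalizer_iff.1 hg v).1 v.2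
  have hgo : Odd (orderOf (g * (v : G) * g⁻¹)) := by
    have : g * (v : G) * g⁻¹ = MulAut.conj g (v : G) := by simp
    rw [this, MulEquiv.orderOf_eq]; exact hvo
  have hgV := hVall ⟨_, hgH⟩ hgo
  have hgc : g * (v : G) * g⁻¹ * v = v * (g * v * g⁻¹) := hVab _ hgV v hvV
  -- reduction to an element centralizing `v`
  have main : ∀ y ∈ normalizer (H : Set G), y * (v : G) = v * y → y ∈ H := by
    intro y hy hyv
    by_cases hyy : y * y = 1
    · by_cases hy1 : y = 1
      · rw [hy1]; exact one_mem H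
      · exact absurd (hs.b2 y v hyy hy1 hyv.symm) hvv
    · have hvi : (v : G)⁻¹ ≠ 1 := fun h1 => hvG (inv_eq_one.1 h1)
      have h1 : t * y * t⁻¹ * (v : G)⁻¹ = (v : G)⁻¹ * (t * y * t⁻¹) := by
        rw [← htv]
        have e1 : t * y * t⁻¹ * (t * v * t⁻¹) = t * (y * v) * t⁻¹ := by group
        rw [e1, hyv]; group
      have h2 : y * (v : G)⁻¹ = (v : G)⁻¹ * y := (Commute.inv_right (a := y) (b := (v : G)) hyv)
      have h3 := hs.ct.ca hvi h1 h2
      rcases hs.b3 t y hyy h3 with h4 | h4
      · exfalso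
        apply hyy
        apply hs.b2 t y htt ht1
        exact (mul_inv_eq_iff_eq_mul.1 h4).symm
      · have h5 : y * t * y⁻¹ ∈ H := (mem_normalizer_iff.1 hy t).1 htH
        have h6 : y * t * y⁻¹ = y * y * t := by
          have : t * y⁻¹ * t⁻¹ = y := by
            calc t * y⁻¹ * t⁻¹ = (t * y * t⁻¹)⁻¹ := by group
              _ = y := by rw [h4, inv_inv]
          calc y * t * y⁻¹ = y * (t * y⁻¹ * t⁻¹) * t := by group
            _ = y * y * t := by rw [this]
        rw [h6] at h5
        have h7 : y * y ∈ H := by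
          have := mul_mem h5 (inv_mem htH)
          have e : y * y * t * t⁻¹ = y * y := by group
          rwa [e] at this
        -- `y` has odd order
        have h8 : Odd (orderOf y) := by
          rw [← Nat.not_even_iff_odd]
          rintro ⟨m, hm⟩
          have hpos : 0 < orderOf y := orderOf_pos y
          have h9 : y ^ m * y ^ m = 1 := by rw [← pow_add, ← hm, pow_orderOf_eq_one]
          have h10 : y ^ m ≠ 1 := by
            intro h11
            have := Nat.le_of_dvd (by omega) (orderOf_dvd_of_pow_eq_one h11)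
            omega
          have h11 : (v : G) * y ^ m = y ^ m * v := (Commute.pow_right (a := (v : G)) (b := y) hyv.symm m)
          exact hvv (hs.b2 (y ^ m) v h9 h10 h11)
        obtain ⟨k, hk⟩ := h8
        have h9 : (y * y) ^ (k + 1) = y := by
          rw [← pow_two, ← pow_mul]
          have : 2 * (k + 1) = orderOf y + 1 := by omega
          rw [this, pow_succ, pow_orderOf_eq_one, one_mul]
        rw [← h9]; exact pow_mem h7 _
  rcases hs.b3 g v hvv hgc with h1 | h1
  · exact main g hg (mul_inv_eq_iff_eq_mul.1 h1)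
  · have htN : t ∈ normalizer (H : Set G) := le_normalizer htH
    have h2 : g * t * (v : G) = v * (g * t) := by
      have h3 : g * t * (v : G) * (g * t)⁻¹ = v := by
        have e1 : g * t * (v : G) * (g * t)⁻¹ = g * (t * v * t⁻¹) * g⁻¹ := by group
        rw [e1, htv]
        calc g * (v : G)⁻¹ * g⁻¹ = (g * v * g⁻¹)⁻¹ := by group
          _ = v := by rw [h1, inv_inv]
      exact mul_inv_eq_iff_eq_mul.1 h3
    have h3 := main (g * t) (mul_mem hg htN) h2
    have h4 := mul_mem h3 (inv_mem htH)
    have e : g * t * t⁻¹ = g := by group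
    rwa [e] at h4

/-- **backward direction** -/
theorem SF.sn (hs : SF G q) (hr : (q - 1).Prime) : SN G := by
  classical
  have hCI := hs.ct.ci
  rintro H ⟨a, ha, b, hb, hab⟩ g hg
  by_cases hodd : Odd (Nat.card H)
  · exact absurd (hs.odd_comm H hodd a ha b hb) hab
  rw [Nat.not_odd_iff_even] at hodd
  obtain ⟨t, ht⟩ := exists_prime_orderOf_dvd_card' (G := H) 2 (even_iff_two_dvd.1 hodd)
  have ht2 : orderOf (t : G) = 2 := by rw [Subgroup.orderOf_coe]; exact ht
  by_cases hHN : H ≤ normalizer (centralizer ({(t : G)} : Set G) : Set G)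
  · have hx : ∃ x ∈ H, x ∉ centralizer ({(t : G)} : Set G) := by
      by_contra hcon
      push Not at hcon
      exact hab (comm_of_mem hCI ht2 (hcon a ha) (hcon b hb))
    have hH := hs.borel_case hr t.2 ht2 hHN hx
    have h1 : g * t * g⁻¹ ∈ H := (mem_normalizer_iff.1 hg t).1 t.2
    have h2 : orderOf (g * (t : G) * g⁻¹) = 2 := by
      have : g * (t : G) * g⁻¹ = MulAut.conj g (t : G) := by simp
      rw [this, MulEquiv.orderOf_eq, ht2]
    have h3 : g * t * g⁻¹ ∈ centralizer ({(t : G)} : Set G) :=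
      inv_mem_of_norm hCI ht2 h2 (hHN h1)
    rw [hH, mem_norm_iff, conj_cent]
    exact cent_eq_of_mem hCI h2 ht2 h3
  · by_cases hex : ∃ s ∈ H, orderOf s = 2 ∧ s ≠ t ∧ s * t = t * s
    · obtain ⟨s, hsH, hs2, hst, hc⟩ := hex
      rw [hs.sl_case hr t.2 ht2 hsH hs2 hst hc hHN]
      trivial
    · push Not at hex
      apply hs.dih_case t.2 ht2 ⟨a, ha, b, hb, hab⟩ _ hg
      intro s hsH hs2 hc
      by_contra hst
      exact hex s hsH hs2 hst hc

theorem SN.congr {X Y : Type*} [Group X] [Group Y] (h : SN Y) (e : X ≃* Y) : SN X := by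
  rintro H ⟨a, ha, b, hb, hab⟩ g hg
  have h1 := h (H.map (e : X →* Y)) ⟨e a, mem_map_of_mem _ ha, e b, mem_map_of_mem _ hb, fun h2 => hab (by
    rw [← map_mul, ← map_mul] at h2; exact e.injective h2)⟩ (e g) (by
      rw [mem_normalizer_iff] at hg ⊢
      intro y
      obtain ⟨x, rfl⟩ := e.surjective y
      have key : ∀ x : X, e x ∈ H.map (e : X →* Y) ↔ x ∈ H := by
        intro x
        constructor
        · rintro ⟨z, hz, hzx⟩
          rw [← e.injective hzx]; exact hz
        · intro hx; exact mem_map_of_mem _ hx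
      rw [← map_inv, ← map_mul, ← map_mul, key, key]
      exact hg x)
  obtain ⟨z, hz, hzg⟩ := h1
  rw [← e.injective hzg]; exact hz

end H2.CI
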