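import Cfsg.Agent.Lib.H2.CI.Basic

set_option autoImplicit false

/-! Centralizers of involutions abelian, TI case: `M = N(A)` is a Frobenius group with kernel `A = C(t)`. -/

namespace H2.CI

open Cfsg Subgroup H25.Isolated

variable {G : Type*} [Group G]

/-- TI situation for `A = C(t)`, `M = N(A)`. -/
structure Sit (t : G) (A M : Subgroup G) : Prop where
  ci : CI G
  t2 : orderOf t = 2
  hA : A = centralizer ({t} : Set G)
  hM : M = normalizer (A : Set G)
  ne : M ≠ ⊤
  /-- centralizers of nonidentity elements of `A` lie in `M` -/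
  cle : ∀ a ∈ A, a ≠ 1 → centralizer ({a} : Set G) ≤ M

namespace Sit

variable {t : G} {A M : Subgroup G}

theorem tA (h : Sit t A M) : t ∈ A := by rw [h.hA, mem_cent]

theorem AM (h : Sit t A M) : A ≤ M := by rw [h.hM]; exact le_normalizer

theorem comm (h : Sit t A M) {x y : G} (hx : x ∈ A) (hy : y ∈ A) : x * y = y * x := by
  rw [h.hA] at hx hy
  exact comm_of_mem h.ci h.t2 hx hy

theorem cent_eq (h : Sit t A M) {s : G} (hs : orderOf s = 2) (hsA : s ∈ A) :
    centralizer ({s} : Set G) = A := by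
  rw [h.hA] at hsA ⊢
  exact cent_eq_of_mem h.ci hs h.t2 hsA

theorem invol_mem (h : Sit t A M) {s : G} (hs : orderOf s = 2) (hsM : s ∈ M) : s ∈ A := by
  rw [h.hM, h.hA] at hsM
  rw [h.hA]
  exact inv_mem_of_norm h.ci h.t2 hs hsM

theorem str [Finite G] (h : Sit t A M) : IsStronglyEmbedded M := by
  have := h.ne
  have h2 := stronglyEmbedded h.ci h.t2
  rw [← h.hA, ← h.hM] at h2
  exact h2 this

theorem t1 (h : Sit t A M) : t ≠ 1 := by
  intro h1
  have := h.t2
  rw [h1, orderOf_one] at this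
  omega

/-- the situation is conjugation invariant and all involutions are conjugate -/
theorem of_inv [Finite G] (h : Sit t A M) {s : G} (hs : orderOf s = 2) :
    Sit s (centralizer ({s} : Set G)) (normalizer (centralizer ({s} : Set G) : Set G)) := by
  obtain ⟨g, hg⟩ := isConj_iff.1 (H25.StrEmb.isConj_of_involutions h.str h.t2 hs)
  have hc : centralizer ({s} : Set G) = A.map (MulAut.conj g).toMonoidHom := by
    rw [← hg, ← conj_cent, h.hA]
  have hn : normalizer (centralizer ({s} : Set G) : Set G) = M.map (MulAut.conj g).toMonoidHom := by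
    rw [hc, h.hM]
    ext x
    rw [H25.StrEmb.mem_map_conj, mem_normalizer_iff, mem_normalizer_iff]
    constructor
    · intro h1 y
      have h2 := h1 (g * y * g⁻¹)
      rw [H25.StrEmb.mem_map_conj, H25.StrEmb.mem_map_conj] at h2
      have e1 : g⁻¹ * (g * y * g⁻¹) * g = y := by group
      have e2 : g⁻¹ * (x * (g * y * g⁻¹) * x⁻¹) * g = g⁻¹ * x * g * y * (g⁻¹ * x * g)⁻¹ := by group
      rw [e1, e2] at h2
      exact h2
    · intro h1 y
      rw [H25.StrEmb.mem_map_conj, H25.StrEmb.mem_map_conj]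
      have h2 := h1 (g⁻¹ * y * g)
      have e2 : g⁻¹ * x * g * (g⁻¹ * y * g) * (g⁻¹ * x * g)⁻¹ = g⁻¹ * (x * y * x⁻¹) * g := by group
      rw [e2] at h2
      exact h2
  refine ⟨h.ci, hs, rfl, rfl, ?_, ?_⟩
  · rw [hn]
    intro h1
    apply h.ne
    rw [eq_top_iff]
    intro x _
    have : g * x * g⁻¹ ∈ M.map (MulAut.conj g).toMonoidHom := by rw [h1]; trivial
    rw [H25.StrEmb.mem_map_conj] at this
    have e : g⁻¹ * (g * x * g⁻¹) * g = x := by group
    rwa [e] at this
  · intro a ha ha1
    rw [hc, H25.StrEmb.mem_map_conj] at ha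
    rw [hn]
    intro x hx
    rw [H25.StrEmb.mem_map_conj]
    apply h.cle _ ha
    · intro h2
      apply ha1
      have : a = g * (g⁻¹ * a * g) * g⁻¹ := by group
      rw [this, h2]; group
    · rw [mem_cent] at hx ⊢
      have : g⁻¹ * x * g * (g⁻¹ * a * g) = g⁻¹ * (x * a) * g := by group
      rw [this, hx]; group

/-- `A` is a TI subgroup. -/
theorem ti [Finite G] (h : Sit t A M) {a g : G} (ha : a ∈ A) (ha1 : a ≠ 1)
    (hg : g⁻¹ * a * g ∈ A) : g ∈ M := by
  -- `gAg⁻¹` centralizes `a`
  have h1 : A.map (MulAut.conj g).toMonoidHom ≤ M := by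
    intro x hx
    apply h.cle a ha ha1
    rw [H25.StrEmb.mem_map_conj] at hx
    rw [mem_cent]
    have h2 := h.comm hx hg
    have e1 : x * a = g * ((g⁻¹ * x * g) * (g⁻¹ * a * g)) * g⁻¹ := by group
    rw [e1, h2]; group
  have hs : orderOf (g * t * g⁻¹) = 2 := by
    have : g * t * g⁻¹ = MulAut.conj g t := by simp
    rw [this, MulEquiv.orderOf_eq, h.t2]
  have h3 : g * t * g⁻¹ ∈ A := by
    apply h.invol_mem hs
    apply h1
    rw [H25.StrEmb.mem_map_conj]
    have e : g⁻¹ * (g * t * g⁻¹) * g = t := by group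
    rw [e]; exact h.tA
  have h4 := h.cent_eq hs h3
  rw [h.hM, mem_norm_iff]
  rw [← conj_cent, ← h.hA] at h4
  exact h4

/-- no nonidentity element of `A` is inverted or centralized by an involution outside `M` -/
theorem not_conj_mem [Finite G] (h : Sit t A M) {a u : G} (hu : u ∉ M) (ha : a ∈ A)
    (hua : u * a * u⁻¹ ∈ A) : a = 1 := by
  by_contra h1
  apply hu
  have : u⁻¹ ∈ M := h.ti ha h1 (by simpa using hua)
  simpa using inv_mem this

theorem conj_M (h : Sit t A M) {m a : G} (hm : m ∈ M) (ha : a ∈ A) : m * a * m⁻¹ ∈ A := by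
  rw [h.hM] at hm
  exact (mem_normalizer_iff.1 hm a).1 ha

/-- involution in a coset: `j = u * d` -/
theorem not_mem_of_coset (h : Sit t A M) {u j : G} (hu : u ∉ M) (hj : u⁻¹ * j ∈ M) : j ∉ M := by
  intro h1
  apply hu
  have : u = j * (u⁻¹ * j)⁻¹ := by group
  rw [this]
  exact mul_mem h1 (inv_mem hj)

/-- for distinct involutions of a coset `uM ≠ M`, centralizers meet trivially -/
theorem cent_inter [Finite G] (h : Sit t A M) {u j k z : G} (hu : u ∉ M) (hj : orderOf j = 2)
    (hk : orderOf k = 2) (hju : u⁻¹ * j ∈ M) (hku : u⁻¹ * k ∈ M) (hz1 : z ≠ 1) (hzj : z * j = j * z)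
    (hzk : z * k = k * z) : j = k := by
  have hjS := h.of_inv hj
  have hkM : k ∈ normalizer (centralizer ({j} : Set G) : Set G) := by
    apply hjS.cle z (mem_cent.2 hzj) hz1
    rw [mem_cent]; exact hzk.symm
  have hkj : k ∈ centralizer ({j} : Set G) := hjS.invol_mem hk hkM
  rw [mem_cent] at hkj
  have hj2 := self_mul_self hj
  have hk2 := self_mul_self hk
  have hjM : j ∉ M := h.not_mem_of_coset hu hju
  have hjk : j * k ∈ M := by
    have : j * k = (u⁻¹ * j)⁻¹ * (u⁻¹ * k) := by
      rw [mul_inv_rev, inv_inv, inv_eq_self_of_sq hj2]; group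
    rw [this]; exact mul_mem (inv_mem hju) hku
  by_contra hne
  have h1 : j * k ≠ 1 := by
    intro h2
    apply hne
    rw [eq_inv_of_mul_eq_one_left h2, inv_eq_self_of_sq hk2]
  have h2 : (j * k) * (j * k) = 1 := by
    calc (j * k) * (j * k) = j * (k * j) * k := by group
      _ = (j * j) * (k * k) := by rw [hkj]; group
      _ = 1 := by rw [hj2, hk2, one_mul]
  have h3 := orderOf_two_of h2 h1
  have h4 := h.invol_mem h3 hjk
  have h5 := h.cent_eq h3 h4
  apply hjM
  apply h.AM
  rw [← h5, mem_cent]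
  calc j * (j * k) = j * (k * j) := by rw [hkj]
    _ = (j * k) * j := by group

end Sit

end H2.CI
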