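import Cfsg.Agent.Lib.H2.CI.TI

set_option autoImplicit false

/-! TI situation, counting. -/

namespace H2.CI

open Cfsg Subgroup H25.Isolated

variable {G : Type*} [Group G]

/-- number of involutions of `M` -/
noncomputable def mm (M : Subgroup G) : ℕ := Nat.card {t : G // orderOf t = 2 ∧ t ∈ M}

namespace Sit

variable {t : G} {A M : Subgroup G}

theorem exists_conj [Finite G] (h : Sit t A M) {u : G} (hu : orderOf u = 2) (huM : u ∉ M) {s : G}
    (hs : orderOf s = 2) (hsM : s ∈ M) :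
    ∃ d ∈ (M ⊓ M.map (MulAut.conj u).toMonoidHom), d * t * d⁻¹ = s :=
  H25.StrEmb.exists_conj_of_mem h.str hu huM h.t2 (h.AM h.tA) hs hsM

theorem orderOf_conj {x s : G} (hs : orderOf s = 2) : orderOf (x * s * x⁻¹) = 2 := by
  have : x * s * x⁻¹ = MulAut.conj x s := by simp
  rw [this, MulEquiv.orderOf_eq, hs]

/-- elements of `M` fixing `t` are in `A` -/
theorem mem_of_fix (h : Sit t A M) {x : G} (hx : x * t * x⁻¹ = t) : x ∈ A := by
  rw [h.hA, mem_cent]
  exact mul_inv_eq_iff_eq_mul.1 hx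

theorem mem_of_fix' (h : Sit t A M) {x y : G} (hx : x * t * x⁻¹ = y * t * y⁻¹) : y⁻¹ * x ∈ A := by
  apply h.mem_of_fix
  have : y⁻¹ * x * t * (y⁻¹ * x)⁻¹ = y⁻¹ * (x * t * x⁻¹) * y := by group
  rw [this, hx]; group

/-- a subgroup of `M` meeting `A` trivially has at most `m` elements -/
theorem card_le [Finite G] (h : Sit t A M) (E : Subgroup G) (hE : E ≤ M)
    (hEA : ∀ x ∈ E, x ∈ A → x = 1) : Nat.card E ≤ mm M := by
  let f : E → {t : G // orderOf t = 2 ∧ t ∈ M} := fun x =>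
    ⟨(x : G) * t * (x : G)⁻¹, orderOf_conj h.t2, mul_mem (mul_mem (hE x.2) (h.AM h.tA))
      (inv_mem (hE x.2))⟩
  apply Nat.card_le_card_of_injective f
  intro x y hxy
  have h1 : (x : G) * t * (x : G)⁻¹ = (y : G) * t * (y : G)⁻¹ := congrArg Subtype.val hxy
  have h2 := hEA _ (mul_mem (inv_mem y.2) x.2) (h.mem_of_fix' h1)
  exact Subtype.ext (inv_mul_eq_one.1 h2).symm

/-- number of involutions in the coset `uM` -/
theorem card_J [Finite G] (h : Sit t A M) {u : G} (huM : u ∉ M) :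
    Nat.card {i : G // orderOf i = 2 ∧ u⁻¹ * i ∈ M} = mm M := by
  have h1 := H25.StrEmb.card_swap h.str (QuotientGroup.mk 1 : G ⧸ M) (QuotientGroup.mk u) (by
    intro h2
    apply huM
    simpa using (QuotientGroup.eq.1 h2))
  rw [mm, ← h1]
  apply Nat.card_congr
  apply Equiv.subtypeEquivRight
  intro i
  rw [H25.StrEmb.smul_mk_eq_iff, mul_one]

theorem mm_pos [Finite G] (h : Sit t A M) : 0 < mm M := by
  have : Nonempty {t : G // orderOf t = 2 ∧ t ∈ M} := ⟨⟨t, h.t2, h.AM h.tA⟩⟩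
  exact Nat.card_pos

/-- every coset `gM ≠ M` contains an involution -/
theorem exists_J [Finite G] (h : Sit t A M) {g : G} (hg : g ∉ M) :
    ∃ i : G, orderOf i = 2 ∧ g⁻¹ * i ∈ M := by
  have h1 := h.card_J hg
  have h2 := h.mm_pos
  rw [← h1] at h2
  obtain ⟨⟨i, hi⟩⟩ := (Nat.card_pos_iff.1 h2).1
  exact ⟨i, hi⟩

theorem mapconj_of_coset (_h : Sit t A M) {u j : G} (hju : u⁻¹ * j ∈ M) {x : G} :
    j⁻¹ * x * j ∈ M ↔ u⁻¹ * x * u ∈ M := by
  have e : j⁻¹ * x * j = (u⁻¹ * j)⁻¹ * (u⁻¹ * x * u) * (u⁻¹ * j) := by group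
  rw [e]
  constructor
  · intro h1
    have := mul_mem (mul_mem hju h1) (inv_mem hju)
    convert this using 1
    group
  · intro h1
    exact mul_mem (mul_mem (inv_mem hju) h1) hju

/-- `A ∩ uMu⁻¹ = 1` for involutions `u ∉ M`. -/
theorem inter_eq_one [Finite G] (h : Sit t A M) {u : G} (hu : orderOf u = 2) (huM : u ∉ M) {x : G}
    (hx : x ∈ A) (hxu : u⁻¹ * x * u ∈ M) : x = 1 := by
  by_contra hx1
  set E : Subgroup G := A.map (MulAut.conj u).toMonoidHom ⊓ M with hE
  have hEA : ∀ y ∈ E, y ∈ A → y = 1 := by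
    intro y hy hyA
    by_contra hy1
    have := (mem_inf.1 hy).1
    rw [H25.StrEmb.mem_map_conj] at this
    exact huM (h.ti hyA hy1 this)
  have h1 := h.card_le E inf_le_right hEA
  -- the map `j ↦ j x j⁻¹`
  have hmem : ∀ j : {i : G // orderOf i = 2 ∧ u⁻¹ * i ∈ M}, (j : G) * x * (j : G)⁻¹ ∈ E := by
    rintro ⟨j, hj2, hju⟩
    have hji : j⁻¹ = j := inv_eq_self_of_sq (self_mul_self hj2)
    rw [hE, mem_inf, H25.StrEmb.mem_map_conj]
    constructor
    · have e : u⁻¹ * (j * x * j⁻¹) * u = (u⁻¹ * j) * x * (u⁻¹ * j)⁻¹ := by group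
      rw [e]
      exact h.conj_M hju hx
    · have := (h.mapconj_of_coset hju).2 hxu
      rw [hji] at this
      simpa [hji] using this
  have hne : ∀ j : {i : G // orderOf i = 2 ∧ u⁻¹ * i ∈ M}, (⟨_, hmem j⟩ : E) ≠ 1 := by
    intro j h2
    have h3 : (j : G) * x * (j : G)⁻¹ = 1 := congrArg Subtype.val h2
    apply hx1
    have : x = (j : G)⁻¹ * ((j : G) * x * (j : G)⁻¹) * j := by group
    rw [this, h3]; group
  let f : {i : G // orderOf i = 2 ∧ u⁻¹ * i ∈ M} → {y : E // y ≠ 1} := fun j => ⟨⟨_, hmem j⟩, hne j⟩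
  have hcommu : ∀ j : {i : G // orderOf i = 2 ∧ u⁻¹ * i ∈ M},
      x * ((j : G) * x * (j : G)⁻¹) = ((j : G) * x * (j : G)⁻¹) * x := by
    intro j
    have hy := hmem j
    set y := (j : G) * x * (j : G)⁻¹ with hydef
    have hyM := (mem_inf.1 hy).2
    have hyA := (mem_inf.1 hy).1
    rw [H25.StrEmb.mem_map_conj] at hyA
    have c1 : x * y * x⁻¹ * y⁻¹ ∈ A := by
      have : x * y * x⁻¹ * y⁻¹ = x * (y * x⁻¹ * y⁻¹) := by group
      rw [this]
      exact mul_mem hx (h.conj_M hyM (inv_mem hx))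
    have c2 : u⁻¹ * (x * y * x⁻¹ * y⁻¹) * u ∈ A := by
      have : u⁻¹ * (x * y * x⁻¹ * y⁻¹) * u = ((u⁻¹ * x * u) * (u⁻¹ * y * u) * (u⁻¹ * x * u)⁻¹) *
        (u⁻¹ * y * u)⁻¹ := by group
      rw [this]
      exact mul_mem (h.conj_M hxu hyA) (inv_mem hyA)
    have c3 : x * y * x⁻¹ * y⁻¹ = 1 := by
      by_contra hc
      exact huM (h.ti c1 hc c2)
    have : x * y = (x * y * x⁻¹ * y⁻¹) * (y * x) := by group
    rw [this, c3, one_mul]
  have hz : ∀ j : {i : G // orderOf i = 2 ∧ u⁻¹ * i ∈ M},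
      (x * ((j : G) * x * (j : G)⁻¹)) * j = j * (x * ((j : G) * x * (j : G)⁻¹)) := by
    intro j
    have hji : (j : G)⁻¹ = j := inv_eq_self_of_sq (self_mul_self j.2.1)
    have hjj : (j : G) * j = 1 := self_mul_self j.2.1
    calc (x * ((j : G) * x * (j : G)⁻¹)) * j = x * (j * x) := by group
      _ = (j * j) * x * (j * x) := by rw [hjj, one_mul]
      _ = j * ((j * x * (j : G)⁻¹) * x) := by rw [hji]; group
      _ = j * (x * ((j : G) * x * (j : G)⁻¹)) := by rw [← hcommu j]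
  have hz1 : ∀ j : {i : G // orderOf i = 2 ∧ u⁻¹ * i ∈ M}, x * ((j : G) * x * (j : G)⁻¹) ≠ 1 := by
    intro j h2
    have h3 : (j : G) * x * (j : G)⁻¹ ∈ A := by
      rw [← inv_eq_of_mul_eq_one_right h2]; exact inv_mem hx
    exact hne j (Subtype.ext (hEA _ (hmem j) h3))
  have hf : Function.Injective f := by
    intro j k hjk
    have h2 : (j : G) * x * (j : G)⁻¹ = (k : G) * x * (k : G)⁻¹ :=
      congrArg (fun y : {y : E // y ≠ 1} => ((y : E) : G)) hjk
    apply Subtype.ext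
    refine h.cent_inter huM j.2.1 k.2.1 j.2.2 k.2.2 (hz1 j) (hz j) ?_
    rw [h2]
    exact hz k
  have h2 := Nat.card_le_card_of_injective f hf
  rw [h.card_J huM] at h2
  have h3 : Nat.card {y : E // y ≠ 1} < Nat.card E := by
    classical
    have := Fintype.ofFinite E
    rw [Nat.card_eq_fintype_card, Nat.card_eq_fintype_card, Fintype.card_subtype_compl,
      Fintype.card_subtype_eq]
    have : 0 < Fintype.card E := Fintype.card_pos
    omega
  omega

/-- `A ∩ gMg⁻¹ = 1` for all `g ∉ M`. -/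
theorem inter_eq_one' [Finite G] (h : Sit t A M) {g : G} (hg : g ∉ M) {x : G}
    (hx : x ∈ A) (hxg : g⁻¹ * x * g ∈ M) : x = 1 := by
  obtain ⟨i, hi, hgi⟩ := h.exists_J hg
  have hiM := h.not_mem_of_coset hg hgi
  exact h.inter_eq_one hi hiM hx ((h.mapconj_of_coset hgi).2 hxg)

/-- the degree is at least `|A| + 1` -/
theorem index_ge [Finite G] (h : Sit t A M) : Nat.card A + 1 ≤ M.index := by
  obtain ⟨g, hg⟩ : ∃ g, g ∉ M := by
    by_contra hcon
    push Not at hcon
    exact h.ne (eq_top_iff.2 fun x _ => hcon x)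
  let f : Option A → G ⧸ M := fun o => match o with
    | none => QuotientGroup.mk 1
    | some a => QuotientGroup.mk ((a : G) * g)
  have hf : Function.Injective f := by
    intro o p hop
    match o, p with
    | none, none => rfl
    | none, some a =>
      exfalso
      have h1 : (1 : G)⁻¹ * ((a : G) * g) ∈ M := QuotientGroup.eq.1 hop
      apply hg
      have := mul_mem (inv_mem (h.AM a.2)) h1
      simpa using this
    | some a, none =>
      exfalso
      have h1 : ((a : G) * g)⁻¹ * 1 ∈ M := QuotientGroup.eq.1 hop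
      apply hg
      rw [mul_one, inv_mem_iff] at h1
      have := mul_mem (inv_mem (h.AM a.2)) h1
      simpa using this
    | some a, some b =>
      have h1 : ((a : G) * g)⁻¹ * ((b : G) * g) ∈ M := QuotientGroup.eq.1 hop
      have h2 : g⁻¹ * ((a : G)⁻¹ * b) * g ∈ M := by
        convert h1 using 1; group
      have h3 := h.inter_eq_one' hg (mul_mem (inv_mem a.2) b.2) h2
      exact congrArg some (Subtype.ext (inv_mul_eq_one.1 h3))
  have h1 := Nat.card_le_card_of_injective f hf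
  rw [Finite.card_option] at h1
  exact h1

end Sit

end H2.CI
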