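import Cfsg.Agent.Lib.H2.CI.TI2

set_option autoImplicit false

/-! TI situation: Frobenius structure of `M`. -/

namespace H2.CI

open Cfsg Subgroup H25.Isolated

variable {G : Type*} [Group G]

namespace Sit

variable {t : G} {A M : Subgroup G}

/-- the two-point stabilizer -/
theorem mem_D {u x : G} : x ∈ M ⊓ M.map (MulAut.conj u).toMonoidHom ↔ x ∈ M ∧ u⁻¹ * x * u ∈ M := by
  rw [mem_inf, H25.StrEmb.mem_map_conj]

/-- `M = D A` -/
theorem exists_D [Finite G] (h : Sit t A M) {u : G} (hu : orderOf u = 2) (huM : u ∉ M) {x : G}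
    (hx : x ∈ M) : ∃ d a : G, d ∈ M ∧ u⁻¹ * d * u ∈ M ∧ a ∈ A ∧ x = d * a := by
  obtain ⟨d, hd, hdt⟩ := h.exists_conj hu huM (orderOf_conj (x := x) h.t2)
    (mul_mem (mul_mem hx (h.AM h.tA)) (inv_mem hx))
  rw [mem_D] at hd
  exact ⟨d, d⁻¹ * x, hd.1, hd.2, h.mem_of_fix' hdt.symm, by group⟩

theorem card_M [Finite G] (h : Sit t A M) : Nat.card M = mm M * Nat.card A := by
  have h1 : (A.subgroupOf M).index = mm M := by
    unfold mm Subgroup.index
    let f : M → {t : G // orderOf t = 2 ∧ t ∈ M} := fun x =>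
      ⟨(x : G) * t * (x : G)⁻¹, orderOf_conj h.t2, mul_mem (mul_mem x.2 (h.AM h.tA)) (inv_mem x.2)⟩
    have hf : ∀ x y : M, f x = f y ↔ x⁻¹ * y ∈ A.subgroupOf M := by
      intro x y
      rw [mem_subgroupOf]
      constructor
      · intro h2
        exact h.mem_of_fix' (congrArg Subtype.val h2).symm
      · intro h2
        apply Subtype.ext
        show (x : G) * t * (x : G)⁻¹ = (y : G) * t * (y : G)⁻¹
        have h3 : (x : G)⁻¹ * y ∈ A := h2
        rw [h.hA, mem_cent] at h3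
        have : (y : G) * t * (y : G)⁻¹ = x * (((x : G)⁻¹ * y) * t) * (y : G)⁻¹ := by group
        rw [this, h3]; group
    have hsurj : Function.Surjective f := by
      rintro ⟨s, hs, hsM⟩
      obtain ⟨u, hu⟩ : ∃ g, g ∉ M := by
        by_contra hcon
        push Not at hcon
        exact h.ne (eq_top_iff.2 fun x _ => hcon x)
      obtain ⟨i, hi, hui⟩ := h.exists_J hu
      have hiM := h.not_mem_of_coset hu hui
      obtain ⟨d, hd, hdt⟩ := h.exists_conj hi hiM hs hsM
      exact ⟨⟨d, (mem_inf.1 hd).1⟩, Subtype.ext hdt⟩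
    apply Nat.card_congr
    refine Equiv.ofBijective (Quotient.lift f ?_) ⟨?_, ?_⟩
    · intro a b hab
      exact (hf a b).2 (QuotientGroup.leftRel_apply.1 hab)
    · intro a b
      induction a using QuotientGroup.induction_on with
      | H a =>
      induction b using QuotientGroup.induction_on with
      | H b =>
      intro hab
      exact QuotientGroup.eq.2 ((hf a b).1 hab)
    · intro s
      obtain ⟨x, hx⟩ := hsurj s
      exact ⟨QuotientGroup.mk x, hx⟩
  rw [← h1, ← Subgroup.index_mul_card (A.subgroupOf M)]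
  congr 1
  exact Nat.card_congr (Subgroup.subgroupOfEquivOfLe h.AM).toEquiv

/-- `u` inverts the two-point stabilizer -/
theorem D_inv [Finite G] (h : Sit t A M) {u : G} (hu : orderOf u = 2) (huM : u ∉ M) {d : G}
    (hd : d ∈ M) (hdu : u⁻¹ * d * u ∈ M) : u * d * u⁻¹ = d⁻¹ := by
  set D : Subgroup G := M ⊓ M.map (MulAut.conj u).toMonoidHom with hD
  have hu2 := self_mul_self hu
  have hui := inv_eq_self_of_sq hu2
  have h1 : Nat.card D ≤ mm M := by
    apply h.card_le D inf_le_left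
    intro x hx hxA
    exact h.inter_eq_one hu huM hxA (mem_D.1 hx).2
  have hfm : ∀ j : G, orderOf j = 2 → u⁻¹ * j ∈ M → u⁻¹ * (u⁻¹ * j) * u ∈ M := by
    intro j hj2 hju
    have hji := inv_eq_self_of_sq (self_mul_self hj2)
    have e : u⁻¹ * (u⁻¹ * j) * u = (u * u)⁻¹ * j * u := by group
    have e2 : (1 : G)⁻¹ * j * u = (u⁻¹ * j)⁻¹ := by
      rw [mul_inv_rev, inv_inv, hji]; group
    rw [e, hu2, e2]
    exact inv_mem hju
  let f : {i : G // orderOf i = 2 ∧ u⁻¹ * i ∈ M} → D := fun j => ⟨u⁻¹ * j, mem_D.2 ⟨j.2.2,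
    hfm j.1 j.2.1 j.2.2⟩⟩
  have hf : Function.Injective f := by
    intro j k hjk
    apply Subtype.ext
    have h2 : u⁻¹ * (j : G) = u⁻¹ * (k : G) := congrArg Subtype.val hjk
    exact mul_left_cancel h2
  have h2 : Function.Bijective f := by
    apply Function.Injective.bijective_of_nat_card_le hf
    rw [h.card_J huM]; exact h1
  obtain ⟨⟨j, hj2, hju⟩, hj⟩ := h2.2 ⟨d, mem_D.2 ⟨hd, hdu⟩⟩
  have h3 : u⁻¹ * j = d := congrArg Subtype.val hj
  rw [← h3]
  have hji := inv_eq_self_of_sq (self_mul_self hj2)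
  rw [mul_inv_rev, inv_inv, hji, hui]
  calc u * (u * j) * u = (u * u) * j * u := by group
    _ = j * u := by rw [hu2, one_mul]

theorem D_odd [Finite G] (h : Sit t A M) {u : G} (huM : u ∉ M) {d : G}
    (hd : d ∈ M) (hdu : u⁻¹ * d * u ∈ M) : Odd (orderOf d) := by
  have h1 := h.str.2.2 u huM
  have h2 : d ∈ M ⊓ M.map (MulAut.conj u).toMonoidHom := mem_D.2 ⟨hd, hdu⟩
  have h3 := Subgroup.orderOf_dvd_natCard _ h2
  exact Odd.of_dvd_nat h1 h3

theorem eq_one_of_odd_sq {x : G} (h : Odd (orderOf x)) (h2 : x * x = 1) : x = 1 := by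
  by_contra h1
  have := orderOf_two_of h2 h1
  rw [this] at h
  exact absurd h (by decide)

/-- `M` is a Frobenius group with kernel `A`: `C_M(y) = A` for `1 ≠ y ∈ A`. -/
theorem frob [Finite G] (h : Sit t A M) {x y : G} (hx : x ∈ M) (hy : y ∈ A) (hy1 : y ≠ 1)
    (hxy : x * y = y * x) : x ∈ A := by
  obtain ⟨g, hg⟩ : ∃ g, g ∉ M := by
    by_contra hcon
    push Not at hcon
    exact h.ne (eq_top_iff.2 fun x _ => hcon x)
  obtain ⟨u, hu, hgu⟩ := h.exists_J hg
  have huM := h.not_mem_of_coset hg hgu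
  have hu2 := self_mul_self hu
  have hui := inv_eq_self_of_sq hu2
  obtain ⟨d, a, hd, hdu, ha, rfl⟩ := h.exists_D hu huM hx
  have hdy : d * y = y * d := by
    have e1 : d * a * y = (d * y) * a := by rw [mul_assoc, h.comm ha hy, ← mul_assoc]
    have e2 : (d * y) * a = (y * d) * a := by rw [← e1, hxy]; group
    exact mul_right_cancel e2
  by_cases hd1 : d = 1
  · rw [hd1, one_mul]; exact ha
  exfalso
  have hdo := h.D_odd huM hd hdu
  have hinv := h.D_inv hu huM hd hdu
  have hd2 : d * d ≠ 1 := fun h2 => hd1 (eq_one_of_odd_sq hdo h2)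
  -- `Y = C(d)`
  set Y : Subgroup G := centralizer ({d} : Set G) with hY
  -- no involutions in `Y`
  have hYodd : ∀ w : G, orderOf w = 2 → w ∉ Y := by
    intro w hw hwY
    rw [hY, mem_cent] at hwY
    have hS := h.of_inv hw
    have h1 : d ∈ centralizer ({w} : Set G) := by rw [mem_cent]; exact hwY.symm
    have h2 : u⁻¹ * d * u ∈ centralizer ({w} : Set G) := by
      have : u⁻¹ * d * u = d⁻¹ := by rw [← hinv, hui]
      rw [this]; exact inv_mem h1
    have h3 := hS.ti h1 hd1 h2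
    have h4 := hS.invol_mem hu h3
    have h5 := hS.comm h4 h1
    apply hd2
    have h6 : u * d * u⁻¹ = d := by rw [h5]; group
    rw [hinv] at h6
    calc d * d = d * d⁻¹ := by rw [h6]
      _ = 1 := by group
  -- fixed points of `u` on `Y`
  have hYfix : ∀ y' ∈ Y, u * y' = y' * u → y' = 1 := by
    intro y' hy' huy'
    by_contra hy'1
    have hS := h.of_inv hu
    have h1 : y' ∈ centralizer ({u} : Set G) := by rw [mem_cent]; exact huy'.symm
    have h2 : d ∈ normalizer (centralizer ({u} : Set G) : Set G) := by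
      apply hS.cle y' h1 hy'1
      rw [mem_cent]
      rw [hY, mem_cent] at hy'
      exact hy'.symm
    have h3 : d * u * d⁻¹ ∈ centralizer ({u} : Set G) := hS.conj_M h2 hS.tA
    rw [mem_cent] at h3
    -- d u d⁻¹ u = u d u d⁻¹ ; u d u = d⁻¹
    have e1 : d * u * d⁻¹ * u = d * (u * d⁻¹ * u⁻¹) := by rw [hui]; group
    have e2 : u * d⁻¹ * u⁻¹ = d := by
      have : u * d⁻¹ * u⁻¹ = (u * d * u⁻¹)⁻¹ := by group
      rw [this, hinv, inv_inv]
    have e3 : u * (d * u * d⁻¹) = (u * d * u⁻¹) * d⁻¹ := by rw [hui]; group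
    rw [e1, e2, e3, hinv] at h3
    -- d * d = d⁻¹ * d⁻¹
    have h4 : (d * d) * (d * d) = 1 := by
      calc (d * d) * (d * d) = (d⁻¹ * d⁻¹) * (d * d) := by rw [← h3]
        _ = 1 := by group
    apply hd2
    apply eq_one_of_odd_sq _ h4
    have : d * d = d ^ 2 := (pow_two d).symm
    rw [this]
    exact Odd.of_dvd_nat hdo (orderOf_pow_dvd 2)
  -- `u` inverts `Y`
  have hYu : ∀ y' ∈ Y, u * y' * u⁻¹ ∈ Y := by
    intro y' hy'
    rw [hY, mem_cent] at hy' ⊢
    have e1 : d = u * d⁻¹ * u⁻¹ := by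
      have : u * d⁻¹ * u⁻¹ = (u * d * u⁻¹)⁻¹ := by group
      rw [this, hinv, inv_inv]
    have e2 : y' * d⁻¹ = d⁻¹ * y' := by
      have : d⁻¹ * (y' * d) * d⁻¹ = d⁻¹ * (d * y') * d⁻¹ := by rw [hy']
      calc y' * d⁻¹ = d⁻¹ * (d * y') * d⁻¹ := by group
        _ = d⁻¹ * (y' * d) * d⁻¹ := by rw [hy']
        _ = d⁻¹ * y' := by group
    calc u * y' * u⁻¹ * d = u * y' * u⁻¹ * (u * d⁻¹ * u⁻¹) := by rw [← e1]
      _ = u * (y' * d⁻¹) * u⁻¹ := by group
      _ = u * (d⁻¹ * y') * u⁻¹ := by rw [e2]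
      _ = (u * d⁻¹ * u⁻¹) * (u * y' * u⁻¹) := by group
      _ = d * (u * y' * u⁻¹) := by rw [← e1]
  let φ : Y →* Y :=
    { toFun := fun y' => ⟨u * y' * u⁻¹, hYu _ y'.2⟩
      map_one' := by apply Subtype.ext; show u * 1 * u⁻¹ = 1; group
      map_mul' := by
        intro a b
        apply Subtype.ext
        show u * (a * b) * u⁻¹ = (u * a * u⁻¹) * (u * b * u⁻¹)
        group }
  have hφfix : MonoidHom.FixedPointFree φ := by
    intro y' hy'
    apply Subtype.ext
    apply hYfix y' y'.2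
    have h2 : u * (y' : G) * u⁻¹ = y' := congrArg Subtype.val hy'
    exact mul_inv_eq_iff_eq_mul.1 h2
  have hφinv : Function.Involutive φ := by
    intro y'
    apply Subtype.ext
    show u * (u * y' * u⁻¹) * u⁻¹ = y'
    have : u * (u * (y' : G) * u⁻¹) * u⁻¹ = (u * u) * y' * (u * u)⁻¹ := by group
    rw [this, hu2]; group
  have hall := hφfix.coe_eq_inv_of_involutive hφinv
  have hyY : y ∈ Y := by rw [hY, mem_cent]; exact hdy.symm
  have h1 : u * y * u⁻¹ = y⁻¹ := by
    have := congrFun hall ⟨y, hyY⟩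
    exact congrArg Subtype.val this
  exact hy1 (h.not_conj_mem huM hy (by rw [h1]; exact inv_mem hy))

end Sit

end H2.CI
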